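import Mathlib

/-!
# The arithmetic of the columns for three or five free classes in a group of order 16
-/

set_option autoImplicit false
set_option linter.unusedSectionVars false
set_option linter.unusedVariables false

namespace CfsgLib.AbelTwo

/-- The shape of one row. -/
theorem row_shape {J : Type*} [Fintype J] [DecidableEq J] (w : J → ℤ) (hne : ∀ j, w j ≠ 0)
    (hcong : ∀ i j, (4 : ℤ) ∣ w i - w j) (hlt : ∑ j, w j ^ 2 < 16) :
    ((∀ j, w j ^ 2 = 4) ∧ Fintype.card J ≤ 3) ∨
      ((∀ j, w j ^ 2 = 1 ∨ w j ^ 2 = 9) ∧ ∀ i j, w i ^ 2 = 9 → w j ^ 2 = 9 → i = j) := by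
  have hb : ∀ j, w j = 1 ∨ w j = -1 ∨ w j = 2 ∨ w j = -2 ∨ w j = 3 ∨ w j = -3 := by
    intro j
    have h1 := Finset.single_le_sum (f := fun i => w i ^ 2) (fun i _ => sq_nonneg (w i))
      (Finset.mem_univ j)
    have h2 : -3 ≤ w j ∧ w j ≤ 3 := by constructor <;> nlinarith
    have := hne j
    omega
  by_cases h : ∃ i, w i = 2 ∨ w i = -2
  · obtain ⟨i, hi⟩ := h
    have hall : ∀ j, w j ^ 2 = 4 := by
      intro j
      have := hcong i j
      rcases hb j with e | e | e | e | e | e <;> rcases hi with e' | e' <;> rw [e, e'] at this <;>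
        first | (rw [e]; done) | (norm_num at this; done) | (rw [e]; norm_num)
    refine Or.inl ⟨hall, ?_⟩
    rw [Finset.sum_congr rfl fun j _ => hall j, Finset.sum_const, nsmul_eq_mul,
      Finset.card_univ] at hlt
    omega
  · push Not at h
    refine Or.inr ⟨fun j => ?_, fun i j hi hj => ?_⟩
    · have := h j
      rcases hb j with e | e | e | e | e | e <;> rw [e] at this ⊢ <;> simp_all
    · by_contra hij
      have h1 : w i ^ 2 + w j ^ 2 ≤ ∑ k, w k ^ 2 := by
        rw [← Finset.sum_pair (f := fun k => w k ^ 2) hij]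
        exact Finset.sum_le_sum_of_subset_of_nonneg (Finset.subset_univ _) fun k _ _ => sq_nonneg _
      omega

/-- Two unit entries congruent modulo four are equal. -/
theorem eq_of_unit {a b : ℤ} (ha : a ^ 2 = 1) (hb : b ^ 2 = 1) (h : (4 : ℤ) ∣ a - b) : a = b := by
  rcases sq_eq_one_iff.1 ha with e | e <;> rcases sq_eq_one_iff.1 hb with e' | e' <;>
    rw [e, e'] at h ⊢ <;> norm_num at h

/-- Five or three classes give eight characters. -/
theorem eight_of_columns {ι J : Type*} [Fintype ι] [DecidableEq ι] [Fintype J] [DecidableEq J]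
    (v : J → ι → ℤ) (e : ι → ℤ) (d : ι → ℤ) (t : ι)
    (hne : ∀ j χ, v j χ ≠ 0) (hcong : ∀ i j χ, (4 : ℤ) ∣ v i χ - v j χ)
    (hrow : ∀ χ, ∑ j, v j χ ^ 2 < 16) (hcol : ∀ j, ∑ χ, v j χ ^ 2 = 16)
    (horth : ∀ i j, i ≠ j → ∑ χ, v i χ * v j χ = 0)
    (he : ∀ χ, e χ ≤ 1) (hnonneg : ∀ χ, 0 ≤ e χ + ∑ j, v j χ)
    (htot : 16 ≤ ∑ χ, (e χ + ∑ j, v j χ))
    (ht : ∀ j, v j t = 1) (hd : ∀ χ, 0 < d χ) (hdeg : ∀ j, ∑ χ, d χ * v j χ = 0)
    (hJ : Fintype.card J = 3 ∨ Fintype.card J = 5) : Fintype.card ι = 8 := by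
  set s := Fintype.card J with hs
  set E := Finset.univ.filter (fun χ => ∀ j, v j χ ^ 2 = 4) with hE
  set T := fun j => Finset.univ.filter (fun χ => v j χ ^ 2 = 9) with hT
  have shape := fun χ => row_shape (fun j => v j χ) (fun j => hne j χ) (fun i j => hcong i j χ)
    (hrow χ)
  obtain ⟨j₀⟩ : Nonempty J := Fintype.card_pos_iff.1 (by omega)
  have hEodd : ∀ χ, χ ∉ E → ∀ j, v j χ ^ 2 = 1 ∨ v j χ ^ 2 = 9 := by
    intro χ hχ j
    rcases shape χ with ⟨h, -⟩ | ⟨h, -⟩
    · exact absurd (Finset.mem_filter.2 ⟨Finset.mem_univ _, h⟩) hχ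
    · exact h j
  -- the column sums
  have hsq : ∀ j χ, v j χ ^ 2 = 1 + (if χ ∈ E then 3 else 0) + (if χ ∈ T j then 8 else 0) := by
    intro j χ
    by_cases hχ : χ ∈ E
    · have h4 := (Finset.mem_filter.1 hχ).2 j
      rw [if_pos hχ, if_neg (by simp [T, h4]), h4]
      norm_num
    · rw [if_neg hχ]
      rcases hEodd χ hχ j with h | h
      · rw [if_neg (by simp [T, h]), h]; norm_num
      · rw [if_pos (by simp [T, h]), h]; norm_num
  have hcount : ∀ j, (Fintype.card ι : ℤ) + 3 * E.card + 8 * (T j).card = 16 := by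
    intro j
    rw [← hcol j, Finset.sum_congr rfl fun χ _ => hsq j χ, Finset.sum_add_distrib,
      Finset.sum_add_distrib, Finset.sum_ite_mem, Finset.sum_ite_mem, Finset.univ_inter,
      Finset.univ_inter, Finset.sum_const, Finset.sum_const, Finset.sum_const, Finset.card_univ]
    simp only [nsmul_eq_mul, mul_one]
    ring
  have hdisj : ((Finset.univ : Finset J) : Set J).PairwiseDisjoint T := by
    intro i _ j _ hij
    refine Finset.disjoint_left.2 fun χ h1 h2 => hij ?_
    simp only [T, Finset.mem_filter, Finset.mem_univ, true_and] at h1 h2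
    rcases shape χ with ⟨h, -⟩ | ⟨-, h⟩
    · have h3 : v i χ ^ 2 = 4 := h i
      omega
    · exact h i j h1 h2
  set U := Finset.univ.biUnion T with hU
  have hUcard : U.card = ∑ j, (T j).card := Finset.card_biUnion hdisj
  have hUE : Disjoint U E := by
    refine Finset.disjoint_left.2 fun χ h1 h2 => ?_
    obtain ⟨j, -, hj⟩ := Finset.mem_biUnion.1 h1
    simp only [T, Finset.mem_filter, Finset.mem_univ, true_and] at hj
    have := (Finset.mem_filter.1 h2).2 j
    omega
  have htE : t ∉ U ∧ t ∉ E := by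
    refine ⟨fun h => ?_, fun h => ?_⟩
    · obtain ⟨j, -, hj⟩ := Finset.mem_biUnion.1 h
      simp [T, ht j] at hj
    · have := (Finset.mem_filter.1 h).2 j₀
      rw [ht j₀] at this
      norm_num at this
  have hconst : ∀ j, (T j).card = (T j₀).card := fun j => by
    have h1 := hcount j; have h2 := hcount j₀; omega
  set β := (T j₀).card with hβ
  have hUs : U.card = s * β := by
    rw [hUcard, Finset.sum_congr rfl fun j _ => hconst j, Finset.sum_const, Finset.card_univ,
      smul_eq_mul]
  have hpart : U.card + E.card + 1 ≤ Fintype.card ι := by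
    have h1 := Finset.card_le_card (Finset.subset_univ (insert t (U ∪ E)))
    rw [Finset.card_insert_of_notMem (by simp [htE.1, htE.2]), Finset.card_union_of_disjoint hUE,
      Finset.card_univ] at h1
    exact h1
  have hmain := hcount j₀
  have hβ1 : β ≤ 1 := by
    rcases hJ with h | h <;> rw [h] at hUs <;> omega
  -- odd rows without a three are constant
  have hplain : ∀ χ, χ ∉ E → χ ∉ U → ∀ i j, v i χ = v j χ := by
    intro χ h1 h2 i j
    have h3 : ∀ k, v k χ ^ 2 = 1 := fun k => (hEodd χ h1 k).resolve_right fun h9 =>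
      h2 (Finset.mem_biUnion.2 ⟨k, Finset.mem_univ k, by simp [T, h9]⟩)
    exact eq_of_unit (h3 i) (h3 j) (hcong i j χ)
  rcases hJ with hs3 | hs5
  · -- three classes
    rw [hs3] at hUs
    by_contra hk8
    have hbad : (β = 0) ∨ (β = 1 ∧ E.card = 1 ∧ Fintype.card ι = 5) := by omega
    set V := fun χ => ∑ j, v j χ with hV
    have hVd : ∑ χ, d χ * V χ = 0 := by
      simp only [V, Finset.mul_sum]
      rw [Finset.sum_comm]
      exact Finset.sum_eq_zero fun j _ => hdeg j
    have hlow : ∀ χ, -1 ≤ V χ := fun χ => by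
      have h1 := hnonneg χ; have h2 := he χ
      simp only [V]; omega
    obtain ⟨eJ⟩ : Nonempty (J ≃ Fin 3) := ⟨Fintype.equivFinOfCardEq hs3⟩
    have hsum3 : ∀ χ, V χ = v (eJ.symm 0) χ + v (eJ.symm 1) χ + v (eJ.symm 2) χ := fun χ => by
      simp only [V]
      rw [← eJ.symm.sum_comp, Fin.sum_univ_three]
    have heven : ∀ χ ∈ E, 0 < V χ ∧ V χ ≤ 6 := by
      intro χ hχ
      have h4 := (Finset.mem_filter.1 hχ).2
      have hv : ∀ j, v j χ = 2 ∨ v j χ = -2 := fun j => by
        have := h4 j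
        exact sq_eq_sq_iff_eq_or_eq_neg.1 (show v j χ ^ 2 = (2 : ℤ) ^ 2 by rw [this]; norm_num)
      have := hsum3 χ; have := hlow χ
      have := hv (eJ.symm 0); have := hv (eJ.symm 1); have := hv (eJ.symm 2)
      omega
    have hthree : ∀ χ ∈ U, V χ = 1 ∨ V χ = -1 := by
      intro χ hχ
      have hχE : χ ∉ E := Finset.disjoint_left.1 hUE hχ
      obtain ⟨j, -, hj⟩ := Finset.mem_biUnion.1 hχ
      simp only [T, Finset.mem_filter, Finset.mem_univ, true_and] at hj
      have hv : ∀ k, v k χ = 1 ∨ v k χ = -1 ∨ v k χ = 3 ∨ v k χ = -3 := fun k => by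
        rcases hEodd χ hχE k with h | h
        · rcases sq_eq_one_iff.1 h with h' | h' <;> omega
        · rcases sq_eq_sq_iff_eq_or_eq_neg.1 (show v k χ ^ 2 = (3 : ℤ) ^ 2 by rw [h]; norm_num)
            with h' | h' <;> omega
      have hthis : v j χ = 3 ∨ v j χ = -3 :=
        sq_eq_sq_iff_eq_or_eq_neg.1 (show v j χ ^ 2 = (3 : ℤ) ^ 2 by rw [hj]; norm_num)
      have hoth : ∀ k, k ≠ j → v k χ = 1 ∨ v k χ = -1 := fun k hk => by
        refine sq_eq_one_iff.1 ((hEodd χ hχE k).resolve_right fun h9 => hk ?_)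
        rcases shape χ with ⟨h, -⟩ | ⟨-, h⟩
        · have : v j χ ^ 2 = 4 := h j
          omega
        · exact h k j h9 hj
      obtain ⟨i, rfl⟩ := eJ.symm.surjective j
      have := hsum3 χ
      have h0 := hv (eJ.symm 0); have h1 := hv (eJ.symm 1); have h2 := hv (eJ.symm 2)
      have c01 := hcong (eJ.symm 0) (eJ.symm 1) χ
      have c02 := hcong (eJ.symm 0) (eJ.symm 2) χ
      fin_cases i
      · have := hoth (eJ.symm 1) (by simp); have := hoth (eJ.symm 2) (by simp)
        have : v (eJ.symm 0) χ = 3 ∨ v (eJ.symm 0) χ = -3 := hthis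
        omega
      · have := hoth (eJ.symm 0) (by simp); have := hoth (eJ.symm 2) (by simp)
        have : v (eJ.symm 1) χ = 3 ∨ v (eJ.symm 1) χ = -3 := hthis
        omega
      · have := hoth (eJ.symm 0) (by simp); have := hoth (eJ.symm 1) (by simp)
        have : v (eJ.symm 2) χ = 3 ∨ v (eJ.symm 2) χ = -3 := hthis
        omega
    have hnoneg : ¬ ∀ χ, 0 < V χ := fun h => by
      have : 0 < ∑ χ, d χ * V χ :=
        Finset.sum_pos (fun χ _ => mul_pos (hd χ) (h χ)) ⟨t, Finset.mem_univ t⟩
      omega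
    have hout : ∀ χ, χ ∉ U → 0 < V χ := by
      intro χ h2
      by_cases hχE : χ ∈ E
      · exact (heven χ hχE).1
      · have h1 := hplain χ hχE h2
        have := hsum3 χ; have := hlow χ
        have := h1 (eJ.symm 0) (eJ.symm 1); have := h1 (eJ.symm 0) (eJ.symm 2)
        have := hne (eJ.symm 0) χ
        omega
    rcases hbad with hb | ⟨hb, hE1, hk5⟩
    · rw [hb, mul_zero] at hUs
      exact hnoneg fun χ => hout χ (by rw [Finset.card_eq_zero.1 hUs]; simp)
    · push Not at hnoneg
      obtain ⟨χn, hn⟩ := hnoneg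
      have hnU : χn ∈ U := by
        by_contra hc
        have := hout χn hc; omega
      have hnE : χn ∉ E := Finset.disjoint_left.1 hUE hnU
      have hnt : χn ≠ t := fun h => htE.1 (h ▸ hnU)
      have hcover : ∀ χ, χ = t ∨ χ ∈ U ∨ χ ∈ E := by
        intro χ
        by_contra hc
        push Not at hc
        have h1 := Finset.card_le_card (Finset.subset_univ (insert χ (insert t (U ∪ E))))
        rw [Finset.card_insert_of_notMem (by simp [hc.1, hc.2.1, hc.2.2]),
          Finset.card_insert_of_notMem (by simp [htE.1, htE.2]), Finset.card_union_of_disjoint hUE,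
          Finset.card_univ] at h1
        omega
      have hbound : ∀ χ, e χ + V χ ≤ 2 + (if χ = t then 2 else 0) + (if χ ∈ E then 5 else 0) -
          (if χ = χn then 2 else 0) := by
        intro χ
        have hE' := he χ
        rcases hcover χ with rfl | hχ | hχ
        · rw [if_pos rfl, if_neg htE.2, if_neg hnt.symm]
          have := hsum3 χ
          rw [ht, ht, ht] at this
          omega
        · rw [if_neg (fun h : χ = t => htE.1 (h ▸ hχ)), if_neg (Finset.disjoint_left.1 hUE hχ)]
          have := hthree χ hχ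
          split_ifs with h
          · subst h; omega
          · omega
        · rw [if_neg (fun h : χ = t => htE.2 (h ▸ hχ)), if_pos hχ,
            if_neg (fun h : χ = χn => hnE (h ▸ hχ))]
          have := heven χ hχ
          omega
      have htot' : ∑ χ, (e χ + V χ) ≤ ∑ χ, (2 + (if χ = t then 2 else 0) +
          (if χ ∈ E then 5 else 0) - (if χ = χn then (2 : ℤ) else 0)) :=
        Finset.sum_le_sum fun χ _ => hbound χ
      have hrhs : ∑ χ, (2 + (if χ = t then 2 else 0) + (if χ ∈ E then 5 else 0) -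
          (if χ = χn then (2 : ℤ) else 0)) = 15 := by
        rw [Finset.sum_sub_distrib, Finset.sum_add_distrib, Finset.sum_add_distrib,
          Finset.sum_ite_mem, Finset.univ_inter]
        simp [hk5, hE1]
      rw [hrhs] at htot'
      exact absurd (htot.trans htot') (by norm_num)
  · -- five classes
    have hE0 : E = ∅ := by
      refine Finset.eq_empty_of_forall_notMem fun χ hχ => ?_
      rcases shape χ with ⟨-, h⟩ | ⟨h, -⟩
      · omega
      · have h4 := (Finset.mem_filter.1 hχ).2 j₀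
        have h' : v j₀ χ ^ 2 = 1 ∨ v j₀ χ ^ 2 = 9 := h j₀
        omega
    rw [hE0, Finset.card_empty] at hmain
    rcases Nat.le_one_iff_eq_zero_or_eq_one.1 hβ1 with hb | hb
    · exfalso
      obtain ⟨j₁, hj₁⟩ : ∃ j, j ≠ j₀ := Fintype.exists_ne_of_one_lt_card (by omega) j₀
      rw [hb, mul_zero] at hUs
      have hnoU : ∀ χ, χ ∉ U := fun χ => by rw [Finset.card_eq_zero.1 hUs]; simp
      have h1 := horth j₁ j₀ hj₁
      rw [Finset.sum_congr rfl fun χ _ => show v j₁ χ * v j₀ χ = v j₀ χ ^ 2 by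
        rw [hplain χ (by rw [hE0]; simp) (hnoU χ) j₁ j₀, pow_two], hcol j₀] at h1
      norm_num at h1
    · omega

end CfsgLib.AbelTwo
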