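import Cfsg.Agent.Lib.AbelTwo.PermBound
import Cfsg.Agent.Lib.AbelTwo.Arith

/-!
# Elementary abelian Sylow 2-subgroups with nilpotent centralisers of involutions
-/

set_option autoImplicit false
set_option linter.unusedSectionVars false
set_option linter.unusedVariables false
set_option linter.style.haveILetI false
set_option maxHeartbeats 1000000

noncomputable section

namespace CfsgLib.AbelTwo

open Cfsg CfsgLib.Characters CfsgLib.Blocks CfsgLib.FrobSchur
open scoped ComplexConjugate Classical

universe u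

variable {G : Type u} [Group G] [Fintype G] [hp2 : Fact (Nat.Prime 2)] {M : Ideal AlgInt}
variable {P : Sylow 2 G}

/-- Conjugation by powers. -/
def cj (n : G) (j : ℕ) (p : G) : G := n ^ j * p * (n ^ j)⁻¹

theorem cj_mem {n p : G} (hn : n ∈ Subgroup.normalizer ((P : Subgroup G) : Set G))
    (hp : p ∈ (P : Subgroup G)) (j : ℕ) : cj n j p ∈ (P : Subgroup G) :=
  (Subgroup.mem_normalizer_iff.1 (pow_mem hn j) p).1 hp

theorem cj_mul (n : G) (j : ℕ) (p q : G) : cj n j (p * q) = cj n j p * cj n j q := by
  simp only [cj]; group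

theorem cj_cj (n : G) (i j : ℕ) (p : G) : cj n i (cj n j p) = cj n (i + j) p := by
  simp only [cj, pow_add]; group

theorem cj_zero (n p : G) : cj n 0 p = p := by simp [cj]

theorem cj_eq_one {n p : G} {j : ℕ} : cj n j p = 1 ↔ p = 1 := conj_eq_one_iff

theorem isConj_cj (n : G) (j : ℕ) (p : G) : IsConj p (cj n j p) := isConj_iff.2 ⟨n ^ j, rfl⟩

theorem cj_injective (n : G) (j : ℕ) : Function.Injective (cj n j) := fun a b h =>
  mul_left_cancel (mul_right_cancel (h : n ^ j * a * (n ^ j)⁻¹ = n ^ j * b * (n ^ j)⁻¹))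

theorem exists_sign' (χ : IrrCharacter G) :
    ∃ e : ℤ, fsInd (χ : G → ℂ) = (e : ℂ) ∧ -1 ≤ e ∧ e ≤ 1 := by
  obtain ⟨e, he, h⟩ := CfsgLib.Indicator.exists_sign χ
  refine ⟨e, he, ?_⟩
  rcases h with ⟨h | h, -⟩ | ⟨h, -⟩ <;> omega

theorem exists_perm_mult (x : G) (χ : IrrCharacter G) :
    ∃ k : ℕ, (k : ℂ) = (Nat.card (Subgroup.centralizer ({x} : Set G)) : ℂ)⁻¹ *
      ∑ c : ↥(Subgroup.centralizer ({x} : Set G)), (χ : G → ℂ) c := by
  obtain ⟨k, hk⟩ := classInner_char_nat (CfsgLib.Clifford.isCharacter_subtype (irr_isCharacter χ)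
    (Subgroup.centralizer ({x} : Set G))) (isCharacter_one (G := ↥(Subgroup.centralizer ({x} : Set G))))
  refine ⟨k, ?_⟩
  rw [← hk, classInner]
  congr 1
  exact Finset.sum_congr rfl fun c _ => by simp

/-- The data coming from the indicator identity and the permutation bound. -/
theorem indicator_data (hM : IsPModular 2 M) (hsq : ∀ p ∈ (P : Subgroup G), p * p = 1) (J : Finset G)
    (hJ : ∀ j ∈ J, Good P j) (hrep : ∀ u : G, u * u = 1 → u ≠ 1 → ∃! j, j ∈ J ∧ IsConj u j)
    {n : G} (hn : n ∈ Subgroup.normalizer ((P : Subgroup G) : Set G)) {L : ℕ}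
    (hdist : ∀ j ∈ J, ∀ i, 0 < i → i < L → cj n i j ≠ j) :
    ∃ e : IrrCharacter G → ℤ, (∀ χ, e χ ≤ 1) ∧ (∀ χ, -1 ≤ e χ) ∧
      (∀ χ ∈ principalBlock M G, 0 ≤ e χ + ∑ j ∈ J, val j χ) ∧
      (∀ j ∈ J, ∑ χ ∈ Finset.univ.filter (· ∈ principalBlock M G), e χ * val j χ = 0) ∧
      (1 + J.card * L : ℤ) ≤
        ∑ χ ∈ Finset.univ.filter (· ∈ principalBlock M G), (e χ + ∑ j ∈ J, val j χ) := by
  have hsq' : ∀ u : G, (∃ k : ℕ, orderOf u = 2 ^ k) → u * u = 1 := fun u hu =>
    Blk7.two_element_sq P (fun z => Subtype.ext (hsq z z.2)) hu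
  choose e he he1 he2 using exists_sign' (G := G)
  choose m hm using fun (j : G) (χ : IrrCharacter G) => exists_perm_mult j χ
  have hid : ∀ χ ∈ principalBlock M G, e χ + ∑ j ∈ J, val j χ =
      (if χ = principalIrr G then 1 else 0) + ∑ j ∈ J, (m j χ : ℤ) := by
    intro χ hχ
    have h := indicator_identity hsq' hM J hJ hrep hχ
    rw [he, Finset.sum_congr rfl fun j _ => (hm j χ).symm] at h
    split_ifs at h ⊢ with h1
    · exact_mod_cast h
    · exact_mod_cast h
  refine ⟨e, he2, he1, fun χ hχ => ?_, fun j hj => ?_, ?_⟩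
  · rw [hid χ hχ]
    exact add_nonneg (by split_ifs <;> norm_num) (Finset.sum_nonneg fun j _ => Nat.cast_nonneg _)
  · have h := fsInd_orth hsq' (hJ j hj) hM
    simp only [he] at h
    exact_mod_cast h
  · rw [Finset.sum_congr rfl fun χ hχ => hid χ (Finset.mem_filter.1 hχ).2, Finset.sum_add_distrib,
      Finset.sum_ite_eq', if_pos (Finset.mem_filter.2 ⟨Finset.mem_univ _, principalIrr_mem' hM⟩),
      Finset.sum_comm]
    refine add_le_add le_rfl ?_
    calc ((J.card : ℤ) * (L : ℤ)) = ∑ _j ∈ J, (L : ℤ) := by simp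
      _ ≤ _ := Finset.sum_le_sum fun j hj => by
        exact_mod_cast (hJ j hj).perm_bound hM hn (fun i h0 hi => hdist j hj i h0 hi) (m j) (hm j)

/-- All involutions conjugate under one element of the normaliser: `k = |P|`. -/
theorem one_class (hM : IsPModular 2 M) {x : G} (h : Good P x)
    (hsq : ∀ p ∈ (P : Subgroup G), p * p = 1) {n : G}
    (hn : n ∈ Subgroup.normalizer ((P : Subgroup G) : Set G))
    (hdist : ∀ i, 0 < i → i < Nat.card (P : Subgroup G) - 1 → cj n i x ≠ x) :
    Nat.card (principalBlock M G) = Nat.card (P : Subgroup G) := by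
  set q := Nat.card (P : Subgroup G) with hq
  have hx1 : x ≠ 1 := fun e => by have := h.order; rw [e, orderOf_one] at this; omega
  have hinj : ∀ i < q - 1, ∀ j < q - 1, cj n i x = cj n j x → i = j := by
    intro i hi j hj he
    by_contra hij
    rcases Nat.lt_or_gt_of_ne hij with hlt | hlt
    · refine hdist (j - i) (by omega) (by omega) (cj_injective n i ?_)
      rw [cj_cj, Nat.add_sub_cancel' hlt.le, he]
    · refine hdist (i - j) (by omega) (by omega) (cj_injective n j ?_)
      rw [cj_cj, Nat.add_sub_cancel' hlt.le, he]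
  have hall : ∀ p ∈ (P : Subgroup G), p ≠ 1 → IsConj x p := by
    intro p hp hp1
    set S := (Finset.univ : Finset G).filter (fun a => a ∈ (P : Subgroup G)) with hS
    have hsub : (Finset.range (q - 1)).image (fun i => cj n i x) ⊆ S.erase 1 := by
      intro a ha
      obtain ⟨i, -, rfl⟩ := Finset.mem_image.1 ha
      exact Finset.mem_erase.2 ⟨fun e => hx1 (cj_eq_one.1 e),
        Finset.mem_filter.2 ⟨Finset.mem_univ _, cj_mem hn h.mem i⟩⟩
    have heq := Finset.eq_of_subset_of_card_le hsub (by
      rw [Finset.card_image_of_injOn (fun i hi j hj e => hinj i (Finset.mem_range.1 hi) j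
        (Finset.mem_range.1 hj) e), Finset.card_range,
        Finset.card_erase_of_mem (Finset.mem_filter.2 ⟨Finset.mem_univ _, one_mem _⟩),
        hq, Nat.card_eq_fintype_card, Fintype.card_subtype])
    have : p ∈ S.erase 1 := Finset.mem_erase.2 ⟨hp1, Finset.mem_filter.2 ⟨Finset.mem_univ _, hp⟩⟩
    rw [← heq] at this
    obtain ⟨i, -, rfl⟩ := Finset.mem_image.1 this
    exact isConj_cj n i x
  have hrep : ∀ u : G, u * u = 1 → u ≠ 1 → ∃! j, j ∈ ({x} : Finset G) ∧ IsConj u j := by
    intro u hu hu1
    refine ⟨x, ⟨Finset.mem_singleton_self x, ?_⟩, fun y hy => Finset.mem_singleton.1 hy.1⟩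
    have hu2 : orderOf u = 2 := orderOf_eq_prime (by rw [pow_two]; exact hu) hu1
    obtain ⟨S, hS⟩ := (IsPGroup.of_card (n := 1) (by rw [Nat.card_zpowers, hu2, pow_one]) :
      IsPGroup 2 (Subgroup.zpowers u)).exists_le_sylow
    obtain ⟨d, hd⟩ := MulAction.exists_smul_eq G S P
    have hmem : d * u * d⁻¹ ∈ (P : Subgroup G) := by
      rw [← hd, Sylow.coe_subgroup_smul]
      exact Subgroup.smul_mem_pointwise_smul _ (MulAut.conj d) _ (hS (Subgroup.mem_zpowers u))
    exact (isConj_iff.2 ⟨d, rfl⟩ : IsConj u _).trans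
      (hall _ hmem fun e => hu1 (conj_eq_one_iff.1 e)).symm
  obtain ⟨e, he, he', hnn, horth, htot⟩ := indicator_data hM hsq {x}
    (fun j hj => Finset.mem_singleton.1 hj ▸ h) hrep hn (L := q - 1)
    (fun j hj i h0 hi => Finset.mem_singleton.1 hj ▸ hdist i h0 hi)
  simp only [Finset.sum_singleton, Finset.card_singleton, Nat.cast_one, one_mul] at htot
  have horth1 := horth x (Finset.mem_singleton_self x)
  set BF := Finset.univ.filter (· ∈ principalBlock M G)
  have hsum := h.sum_sq hM
  rw [← hq] at hsum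
  have hterm : ∀ χ ∈ BF, 0 ≤ (val x χ - 1) * (val x χ + e χ) := by
    intro χ hχ
    have h0 := h.val_ne_zero hM (Finset.mem_filter.1 hχ).2
    have := he χ; have := he' χ
    rcases lt_or_gt_of_ne h0 with hl | hl
    · exact mul_nonneg_of_nonpos_of_nonpos (by omega) (by omega)
    · exact mul_nonneg (by omega) (by omega)
  have hzero : ∑ χ ∈ BF, (val x χ - 1) * (val x χ + e χ) = 0 := by
    refine le_antisymm ?_ (Finset.sum_nonneg hterm)
    have e1 : ∑ χ ∈ BF, (val x χ - 1) * (val x χ + e χ) =
        ∑ χ ∈ BF, val x χ ^ 2 + ∑ χ ∈ BF, e χ * val x χ - ∑ χ ∈ BF, (e χ + val x χ) := by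
      rw [← Finset.sum_add_distrib, ← Finset.sum_sub_distrib]
      exact Finset.sum_congr rfl fun χ _ => by ring
    rw [e1, hsum, horth1]
    have : 1 ≤ q := Nat.card_pos
    omega
  have hunit : ∀ χ ∈ BF, val x χ ^ 2 = 1 := by
    intro χ hχ
    have h1 := (Finset.sum_eq_zero_iff_of_nonneg hterm).1 hzero χ hχ
    have h0 := h.val_ne_zero hM (Finset.mem_filter.1 hχ).2
    have := he χ; have := he' χ
    have : val x χ = 1 ∨ val x χ = -1 := by
      rcases mul_eq_zero.1 h1 with h2 | h2 <;> omega
    rcases this with e2 | e2 <;> rw [e2] <;> norm_num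
  rw [Finset.sum_congr rfl hunit, Finset.sum_const, nsmul_eq_mul, mul_one] at hsum
  rw [Nat.card_eq_fintype_card, Fintype.card_subtype]
  exact_mod_cast hsum

/-- The values on a four-group add up to a multiple of four. -/
theorem dvd_four_group (χ : IrrCharacter G) {a b : G} (hsq : ∀ p ∈ (P : Subgroup G), p * p = 1)
    (hab : ∀ p ∈ (P : Subgroup G), ∀ q ∈ (P : Subgroup G), p * q = q * p)
    (ha : a ∈ (P : Subgroup G)) (hb : b ∈ (P : Subgroup G)) (ha1 : a ≠ 1) (hb1 : b ≠ 1) (hne : a ≠ b)
    {va vb vc : ℤ} (hva : (χ : G → ℂ) a = va) (hvb : (χ : G → ℂ) b = vb)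
    (hvc : (χ : G → ℂ) (a * b) = vc) :
    (4 : ℤ) ∣ (charDegree (χ : G → ℂ) : ℤ) + va + vb + vc := by
  have h2a := hsq a ha
  have h2b := hsq b hb
  have hc := hab a ha b hb
  have hba : b * a = a * b := hc.symm
  have haab : a * (a * b) = b := by rw [← mul_assoc, h2a, one_mul]
  have habb : a * b * b = a := by rw [mul_assoc, h2b, mul_one]
  have haba : a * b * a = b := by rw [mul_assoc, hba, haab]
  have hbab : b * (a * b) = a := by rw [← mul_assoc, hba, habb]
  let W : Subgroup G :=
    { carrier := {1, a, b, a * b}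
      one_mem' := Or.inl rfl
      mul_mem' := by
        intro p q hp hq
        simp only [Set.mem_insert_iff, Set.mem_singleton_iff] at hp hq ⊢
        rcases hp with rfl | rfl | rfl | rfl <;> rcases hq with rfl | rfl | rfl | rfl <;>
          simp [h2a, h2b, haab, habb, haba, hbab, hba, hsq _ (mul_mem ha hb)]
      inv_mem' := by
        intro p hp
        have hpP : p ∈ (P : Subgroup G) := by
          simp only [Set.mem_insert_iff, Set.mem_singleton_iff] at hp
          rcases hp with rfl | rfl | rfl | rfl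
          exacts [one_mem _, ha, hb, mul_mem ha hb]
        rw [inv_eq_iff_mul_eq_one.2 (hsq p hpP)]
        exact hp }
  haveI : Fintype W := Fintype.ofFinite W
  have hab1 : a * b ≠ 1 := fun e => hne (by
    calc a = a * b * b := habb.symm
      _ = b := by rw [e, one_mul])
  have hset : (Finset.univ : Finset G).filter (fun p => p ∈ W) = {1, a, b, a * b} := by
    ext p
    simp only [Finset.mem_filter, Finset.mem_univ, true_and, Finset.mem_insert, Finset.mem_singleton]
    exact Iff.rfl
  have hd1 : (1 : G) ∉ ({a, b, a * b} : Finset G) := by simp [ha1.symm, hb1.symm, hab1.symm]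
  have hd2 : a ∉ ({b, a * b} : Finset G) := by simp [hne, hb1]
  have hd3 : b ∉ ({a * b} : Finset G) := by simp [ha1]
  have hcard : Nat.card W = 4 := by
    rw [Nat.card_eq_fintype_card, Fintype.card_subtype, hset, Finset.card_insert_of_notMem hd1,
      Finset.card_insert_of_notMem hd2, Finset.card_insert_of_notMem hd3, Finset.card_singleton]
  obtain ⟨k, hk⟩ := classInner_char_nat
    (CfsgLib.Clifford.isCharacter_subtype (irr_isCharacter χ) W) (isCharacter_one (G := W))
  simp only [classInner, Pi.one_apply, map_one, mul_one, hcard] at hk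
  rw [← Finset.sum_subtype (Finset.univ.filter (fun p => p ∈ W)) (p := fun p => p ∈ W) (by simp)
      (fun p => (χ : G → ℂ) p), hset, Finset.sum_insert hd1, Finset.sum_insert hd2,
    Finset.sum_insert hd3, Finset.sum_singleton, hva, hvb, hvc,
    (CfsgLib.ClassCount.degree_eq χ).1, inv_mul_eq_iff_eq_mul₀ (by norm_num)] at hk
  refine ⟨(k : ℤ), ?_⟩
  have h4 : ((charDegree (χ : G → ℂ) : ℤ) : ℂ) + va + vb + vc = ((4 * (k : ℤ) : ℤ) : ℂ) := by
    push_cast at hk ⊢
    linear_combination hk
  exact_mod_cast h4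

/-- A fixed point free element of order three or five on an elementary group of order sixteen. -/
theorem free_sixteen (hM : IsPModular 2 M) (hsq : ∀ p ∈ (P : Subgroup G), p * p = 1)
    (hcard : Nat.card (P : Subgroup G) = 16)
    (hgood : ∀ p ∈ (P : Subgroup G), p ≠ 1 → Good P p) {n : G}
    (hn : n ∈ Subgroup.normalizer ((P : Subgroup G) : Set G)) {q : ℕ} (hq : q = 3 ∨ q = 5)
    (hper : ∀ p ∈ (P : Subgroup G), cj n q p = p)
    (hfree : ∀ p ∈ (P : Subgroup G), p ≠ 1 → ∀ i, 0 < i → i < q → cj n i p ≠ p)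
    (hfus : ∀ p ∈ (P : Subgroup G), ∀ p' ∈ (P : Subgroup G), IsConj p p' →
      ∃ i < q, p' = cj n i p) :
    Nat.card (principalBlock M G) = 8 := by
  have hab : ∀ p ∈ (P : Subgroup G), ∀ r ∈ (P : Subgroup G), p * r = r * p := fun p hp r hr =>
    Elem16.comm_of_sq hsq p hp r hr
  set S := (Finset.univ : Finset G).filter (fun p => p ∈ (P : Subgroup G) ∧ p ≠ 1) with hS
  have hScard : S.card = 15 := by
    have e : S = ((Finset.univ : Finset G).filter (fun p => p ∈ (P : Subgroup G))).erase 1 := by
      ext p; simp [S, and_comm]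
    rw [e, Finset.card_erase_of_mem (by simp [one_mem]), ← Fintype.card_subtype,
      ← Nat.card_eq_fintype_card, hcard]
  set pick : ConjClasses G → G := fun c =>
    if h : ∃ r ∈ S, ConjClasses.mk r = c then h.choose else 1
  set rep : G → G := fun p => pick (ConjClasses.mk p) with hrepdef
  have hrep1 : ∀ p ∈ S, rep p ∈ S ∧ IsConj p (rep p) := by
    intro p hp
    have hex : ∃ r ∈ S, ConjClasses.mk r = ConjClasses.mk p := ⟨p, hp, rfl⟩
    simp only [rep, pick, dif_pos hex]
    exact ⟨hex.choose_spec.1, (ConjClasses.mk_eq_mk_iff_isConj.1 hex.choose_spec.2).symm⟩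
  have hrep2 : ∀ p ∈ S, ∀ r, IsConj p r → rep p = rep r := fun p hp r hr =>
    congrArg pick (ConjClasses.mk_eq_mk_iff_isConj.2 hr)
  set J := S.image rep
  have hJS : ∀ j ∈ J, j ∈ S := fun j hj => by
    obtain ⟨p, hp, rfl⟩ := Finset.mem_image.1 hj; exact (hrep1 p hp).1
  have hJP : ∀ j ∈ J, j ∈ (P : Subgroup G) ∧ j ≠ 1 := fun j hj => (Finset.mem_filter.1 (hJS j hj)).2
  have hgoodJ : ∀ j ∈ J, Good P j := fun j hj => hgood j (hJP j hj).1 (hJP j hj).2
  have hSmem : ∀ p ∈ (P : Subgroup G), p ≠ 1 → p ∈ S := fun p hp hp1 =>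
    Finset.mem_filter.2 ⟨Finset.mem_univ _, hp, hp1⟩
  have huniqJ : ∀ j ∈ J, ∀ p ∈ S, IsConj p j → rep p = j := by
    intro j hj p hp hpj
    obtain ⟨r, hr, rfl⟩ := Finset.mem_image.1 hj
    exact (hrep2 r hr p ((hrep1 r hr).2.trans hpj.symm)).symm
  have hJne : ∀ i ∈ J, ∀ j ∈ J, IsConj i j → i = j := fun i hi j hj hij => by
    rw [← huniqJ i hi i (hJS i hi) (IsConj.refl i), huniqJ j hj i (hJS i hi) hij]
  have hrep : ∀ u : G, u * u = 1 → u ≠ 1 → ∃! j, j ∈ J ∧ IsConj u j := by
    intro u hu hu1
    have hu2 : orderOf u = 2 := orderOf_eq_prime (by rw [pow_two]; exact hu) hu1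
    obtain ⟨T, hT⟩ := (IsPGroup.of_card (n := 1) (by rw [Nat.card_zpowers, hu2, pow_one]) :
      IsPGroup 2 (Subgroup.zpowers u)).exists_le_sylow
    obtain ⟨d, hd⟩ := MulAction.exists_smul_eq G T P
    have hmem : d * u * d⁻¹ ∈ (P : Subgroup G) := by
      rw [← hd, Sylow.coe_subgroup_smul]
      exact Subgroup.smul_mem_pointwise_smul _ (MulAut.conj d) _ (hT (Subgroup.mem_zpowers u))
    have hS' := hSmem _ hmem fun e => hu1 (conj_eq_one_iff.1 e)
    have hcu : IsConj u (d * u * d⁻¹) := isConj_iff.2 ⟨d, rfl⟩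
    refine ⟨rep (d * u * d⁻¹), ⟨Finset.mem_image_of_mem rep hS', hcu.trans (hrep1 _ hS').2⟩,
      fun j hj => (huniqJ j hj.1 _ hS' (hcu.symm.trans hj.2)).symm⟩
  -- the number of classes
  have hJcard : J.card * q = 15 := by
    rw [← hScard, Finset.card_eq_sum_card_fiberwise (s := S) (f := rep) (t := J)
      (fun p hp => Finset.mem_image_of_mem rep hp)]
    rw [← smul_eq_mul, ← Finset.sum_const]
    refine Finset.sum_congr rfl fun j hj => ?_
    have hfib : S.filter (fun p => rep p = j) = (Finset.range q).image (fun i => cj n i j) := by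
      ext p
      simp only [Finset.mem_filter, Finset.mem_image, Finset.mem_range]
      constructor
      · rintro ⟨hp, rfl⟩
        obtain ⟨i, hi, e⟩ := hfus _ (hJP _ hj).1 p (Finset.mem_filter.1 hp).2.1 (hrep1 p hp).2.symm
        exact ⟨i, hi, e.symm⟩
      · rintro ⟨i, -, rfl⟩
        have hin := hSmem _ (cj_mem hn (hJP j hj).1 i) fun e => (hJP j hj).2 (cj_eq_one.1 e)
        exact ⟨hin, huniqJ j hj _ hin (isConj_cj n i j).symm⟩
    rw [hfib, Finset.card_image_of_injOn, Finset.card_range]
    intro a ha b hb he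
    have hjp := hJP j hj
    by_contra hne
    rcases Nat.lt_or_gt_of_ne hne with hlt | hlt
    · refine hfree j hjp.1 hjp.2 (b - a) (by omega)
        (by have := Finset.mem_range.1 hb; omega) (cj_injective n a ?_)
      rw [cj_cj, Nat.add_sub_cancel' hlt.le]; exact he.symm
    · refine hfree j hjp.1 hjp.2 (a - b) (by omega)
        (by have := Finset.mem_range.1 ha; omega) (cj_injective n b ?_)
      rw [cj_cj, Nat.add_sub_cancel' hlt.le]; exact he
  -- values
  have hval : ∀ (χ : IrrCharacter G) {p r : G}, p ∈ (P : Subgroup G) → p ≠ 1 →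
      r ∈ (P : Subgroup G) → r ≠ 1 → IsConj p r → val p χ = val r χ := by
    intro χ p r hp hp1 hr hr1 h
    have e : ((val p χ : ℤ) : ℂ) = (val r χ : ℂ) := by
      rw [← (hgood p hp hp1).val_spec, ← (hgood r hr hr1).val_spec]
      exact classFunction_eq_of_isConj (irr_isClassFunction χ) h
    exact_mod_cast e
  have hvc : ∀ (χ : IrrCharacter G) {p : G}, p ∈ (P : Subgroup G) → p ≠ 1 → ∀ i,
      val (cj n i p) χ = val p χ := fun χ p hp hp1 i =>
    (hval χ hp hp1 (cj_mem hn hp i) (fun e => hp1 (cj_eq_one.1 e)) (isConj_cj n i p)).symm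
  have hfix1 : ∀ p ∈ (P : Subgroup G), cj n 1 p = p → p = 1 := fun p hp h => by
    by_contra hp1
    exact hfree p hp hp1 1 one_pos (by omega) h
  -- congruences
  have hcong : ∀ (χ : IrrCharacter G), ∀ p ∈ (P : Subgroup G), p ≠ 1 → ∀ r ∈ (P : Subgroup G),
      r ≠ 1 → (4 : ℤ) ∣ val p χ - val r χ := by
    intro χ
    set d : ℤ := (charDegree (χ : G → ℂ) : ℤ)
    rcases hq with hq3 | hq5
    · subst hq3
      have key : ∀ p ∈ (P : Subgroup G), p ≠ 1 → (4 : ℤ) ∣ d + 3 * val p χ := by
        intro p hp hp1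
        have h1P := cj_mem hn hp 1
        have h2P := cj_mem hn hp 2
        have hprod : p * cj n 1 p * cj n 2 p = 1 := by
          refine hfix1 _ (mul_mem (mul_mem hp h1P) h2P) ?_
          rw [cj_mul, cj_mul, cj_cj, cj_cj, hper p hp, hab _ (mul_mem h1P h2P) _ hp, ← mul_assoc]
        have h2eq : p * cj n 1 p = cj n 2 p := by
          calc p * cj n 1 p = p * cj n 1 p * (cj n 2 p * cj n 2 p) := by rw [hsq _ h2P, mul_one]
            _ = cj n 2 p := by rw [← mul_assoc, hprod, one_mul]
        have h := dvd_four_group (P := P) χ hsq hab hp h1P hp1 (fun e => hp1 (cj_eq_one.1 e))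
          (fun e => hfree p hp hp1 1 one_pos (by norm_num) e.symm) ((hgood p hp hp1).val_spec χ)
          ((hgood _ h1P (fun e => hp1 (cj_eq_one.1 e))).val_spec χ) (vc := val (cj n 2 p) χ)
          (h2eq ▸ (hgood _ h2P (fun e => hp1 (cj_eq_one.1 e))).val_spec χ)
        rw [hvc χ hp hp1, hvc χ hp hp1] at h
        obtain ⟨c, hc⟩ := h
        exact ⟨c, by rw [← hc]; ring⟩
      intro p hp hp1 r hr hr1
      have h1 := key p hp hp1
      have h2 := key r hr hr1
      omega
    · subst hq5
      obtain ⟨a, haS⟩ : ∃ a, a ∈ S := Finset.card_pos.1 (by rw [hScard]; norm_num) |>.exists_mem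
      obtain ⟨-, ha, ha1⟩ := Finset.mem_filter.1 haS
      set A := fun i => cj n i a with hA
      have hAP : ∀ i, A i ∈ (P : Subgroup G) := fun i => cj_mem hn ha i
      have hA1 : ∀ i, A i ≠ 1 := fun i e => ha1 (cj_eq_one.1 e)
      have hAne : ∀ i, 0 < i → i < 5 → A 0 ≠ A i := fun i h0 h5 e => by
        simp only [A, cj_zero] at e
        exact hfree a ha ha1 i h0 h5 e.symm
      letI : CommGroup (P : Subgroup G) :=
        { (inferInstance : Group (P : Subgroup G)) with
          mul_comm := fun s t => Subtype.ext (hab s s.2 t t.2) }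
      let B : ℕ → (P : Subgroup G) := fun i => ⟨A i, hAP i⟩
      have hBsq : ∀ i, B i * B i = 1 := fun i => Subtype.ext (hsq _ (hAP i))
      have hA5 : A 5 = A 0 := by simp only [A, cj_zero]; exact hper a ha
      have hprodA : A 0 * A 1 * A 2 * A 3 * A 4 = 1 := by
        refine hfix1 _ (mul_mem (mul_mem (mul_mem (mul_mem (hAP 0) (hAP 1)) (hAP 2)) (hAP 3))
          (hAP 4)) ?_
        simp only [A, cj_mul, cj_cj]
        rw [show (1 : ℕ) + 4 = 5 from rfl, show cj n 5 a = cj n 0 a from hA5]
        show A 1 * A 2 * A 3 * A 4 * A 0 = A 0 * A 1 * A 2 * A 3 * A 4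
        rw [hab _ (mul_mem (mul_mem (mul_mem (hAP 1) (hAP 2)) (hAP 3)) (hAP 4)) _ (hAP 0)]
        group
      have hB4 : B 0 * B 1 * B 2 * B 3 = B 4 := by
        apply Subtype.ext
        show A 0 * A 1 * A 2 * A 3 = A 4
        calc A 0 * A 1 * A 2 * A 3 = A 0 * A 1 * A 2 * A 3 * (A 4 * A 4) := by
              rw [hsq _ (hAP 4), mul_one]
          _ = A 4 := by rw [← mul_assoc, hprodA, one_mul]
      let sel : Bool → ℕ → (P : Subgroup G) := fun b i => bif b then B i else 1
      have hsel : ∀ b c i, sel b i * sel c i = sel (xor b c) i := fun b c i => by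
        cases b <;> cases c <;> simp [sel, hBsq]
      let ψ : Bool × Bool × Bool × Bool → (P : Subgroup G) := fun t =>
        sel t.1 0 * sel t.2.1 1 * sel t.2.2.1 2 * sel t.2.2.2 3
      let H : Subgroup (P : Subgroup G) :=
        { carrier := Set.range ψ
          one_mem' := ⟨(false, false, false, false), by simp [ψ, sel]⟩
          mul_mem' := by
            rintro _ _ ⟨s, rfl⟩ ⟨t, rfl⟩
            refine ⟨(xor s.1 t.1, xor s.2.1 t.2.1, xor s.2.2.1 t.2.2.1, xor s.2.2.2 t.2.2.2), ?_⟩
            simp only [ψ, ← hsel]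
            ac_rfl
          inv_mem' := by
            rintro p ⟨s, rfl⟩
            exact ⟨s, (inv_eq_of_mul_eq_one_right (Subtype.ext (hsq _ (ψ s).2))).symm⟩ }
      -- the range is invariant and contains a free orbit, hence everything
      have hBH : ∀ i < 5, B i ∈ H := by
        intro i hi
        interval_cases i
        · exact ⟨(true, false, false, false), by simp [ψ, sel]⟩
        · exact ⟨(false, true, false, false), by simp [ψ, sel]⟩
        · exact ⟨(false, false, true, false), by simp [ψ, sel]⟩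
        · exact ⟨(false, false, false, true), by simp [ψ, sel]⟩
        · exact ⟨(true, true, true, true), by simp [ψ, sel, hB4]⟩
      set τ : ↥(P : Subgroup G) → ↥(P : Subgroup G) := fun p => ⟨cj n 1 p, cj_mem hn p.2 1⟩
      have hτmul : ∀ s t, τ (s * t) = τ s * τ t := fun s t => Subtype.ext (cj_mul n 1 s t)
      have hτB : ∀ i < 4, τ (B i) = B (i + 1) := fun i _ => Subtype.ext (by
        simp only [τ, B, A, cj_cj, add_comm 1 i])
      have hτH : ∀ p ∈ H, τ p ∈ H := by
        rintro _ ⟨t, rfl⟩
        have h1 : ∀ (b : Bool) (i : ℕ), i < 4 → τ (sel b i) ∈ H := fun b i hi => by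
          cases b
          · rw [show τ (sel false i) = 1 from Subtype.ext (by simp [τ, sel, cj])]
            exact one_mem H
          · rw [show τ (sel true i) = B (i + 1) from hτB i hi]
            exact hBH (i + 1) (by omega)
        simp only [ψ, hτmul]
        exact mul_mem (mul_mem (mul_mem (h1 _ 0 (by norm_num)) (h1 _ 1 (by norm_num)))
          (h1 _ 2 (by norm_num))) (h1 _ 3 (by norm_num))
      have hτiter : ∀ (i : ℕ) (p : (P : Subgroup G)), (τ^[i] p : G) = cj n i (p : G) := by
        intro i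
        induction i with
        | zero => intro p; simp [cj_zero]
        | succ i ih =>
          intro p
          rw [Function.iterate_succ_apply', show (τ (τ^[i] p) : G) = cj n 1 (τ^[i] p : G) from rfl,
            ih, cj_cj, add_comm]
      have hHtop : ∀ p : (P : Subgroup G), p ∈ H := by
        have hdvd : Nat.card H ∣ 2 ^ 4 := by
          have := H.card_subgroup_dvd_card
          rw [hcard] at this; exact this
        obtain ⟨k, hk, hHk⟩ := (Nat.dvd_prime_pow Nat.prime_two).1 hdvd
        -- outside `H` the orbits have length five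
        by_contra hc
        push Not at hc
        obtain ⟨p, hp⟩ := hc
        have hk4 : k < 4 := by
          by_contra h4
          have : H = ⊤ := Subgroup.eq_top_of_card_eq _ (by
            rw [hHk, show k = 4 by omega, hcard]; norm_num)
          exact hp (this ▸ Subgroup.mem_top p)
        have h5 : 5 ≤ Nat.card H - 1 := by
          let f : Fin 5 → {h : H // h ≠ 1} := fun i =>
            ⟨⟨B i, hBH i i.2⟩, fun e => hA1 i (congrArg (fun h : H => ((h : (P : Subgroup G)) : G)) e)⟩
          have hf : Function.Injective f := by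
            intro i j e
            have e' : A i = A j := congrArg (fun h : {h : H // h ≠ 1} => ((h.1 : (P : Subgroup G)) : G)) e
            refine Fin.ext ?_
            by_contra hne
            rcases Nat.lt_or_gt_of_ne hne with hlt | hlt
            · refine hfree a ha ha1 ((j : ℕ) - i) (by omega) (by omega) (cj_injective n i ?_)
              rw [cj_cj, Nat.add_sub_cancel' hlt.le]; exact e'.symm
            · refine hfree a ha ha1 ((i : ℕ) - j) (by omega) (by omega) (cj_injective n j ?_)
              rw [cj_cj, Nat.add_sub_cancel' hlt.le]; exact e'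
          have h1 := Nat.card_le_card_of_injective f hf
          rw [Nat.card_fin] at h1
          have h2 : Nat.card {h : H // h ≠ 1} = Nat.card H - 1 := by
            rw [Nat.card_eq_fintype_card, Nat.card_eq_fintype_card, Fintype.card_subtype_compl,
              Fintype.card_subtype_eq]
          omega
        have hk3 : k = 3 := by
          interval_cases k <;> first | rfl | (rw [hHk] at h5; norm_num at h5)
        -- the eight elements outside cannot all be in orbits of length five
        set T := (Finset.univ : Finset (P : Subgroup G)).filter (fun p => p ∉ H)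
        have hT : T.card = 8 := by
          have h1 := Finset.card_filter_add_card_filter_not (s := (Finset.univ : Finset (P : Subgroup G)))
            (fun p => p ∈ H)
          have h2 : ((Finset.univ : Finset (P : Subgroup G)).filter (fun p => p ∈ H)).card = 8 := by
            rw [← Fintype.card_subtype, ← Nat.card_eq_fintype_card]
            show Nat.card H = 8
            rw [hHk, hk3]; norm_num
          rw [Finset.card_univ, ← Nat.card_eq_fintype_card, hcard, h2] at h1
          simp only [T]; omega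
        have hτ5 : ∀ r : (P : Subgroup G), τ^[5] r = r := fun r => Subtype.ext (by
          rw [hτiter]; exact hper r r.2)
        have hTinv : ∀ r ∈ T, τ r ∈ T := by
          intro r hr
          refine Finset.mem_filter.2 ⟨Finset.mem_univ _, fun h => (Finset.mem_filter.1 hr).2 ?_⟩
          have h4 : ∀ i, τ^[i] (τ r) ∈ H := fun i => by
            induction i with
            | zero => exact h
            | succ i ih => rw [Function.iterate_succ_apply']; exact hτH _ ih
          have := h4 4
          rwa [← Function.iterate_succ_apply, hτ5] at this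
        have horbit : ∀ r ∈ T, ((Finset.range 5).image fun i => τ^[i] r) ⊆ T ∧
            ((Finset.range 5).image fun i => τ^[i] r).card = 5 := by
          intro r hr
          refine ⟨?_, ?_⟩
          · intro s hs
            obtain ⟨i, -, rfl⟩ := Finset.mem_image.1 hs
            clear hs
            induction i with
            | zero => exact hr
            | succ i ih => rw [Function.iterate_succ_apply']; exact hTinv _ ih
          · rw [Finset.card_image_of_injOn, Finset.card_range]
            intro i hi j hj e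
            have hr1 : (r : G) ≠ 1 := fun e1 => (Finset.mem_filter.1 hr).2 (by
              rw [show r = 1 from Subtype.ext e1]; exact one_mem H)
            have e' : cj n i (r : G) = cj n j (r : G) := by
              rw [← hτiter, ← hτiter]; exact congrArg Subtype.val e
            have hi' := Finset.mem_range.1 hi; have hj' := Finset.mem_range.1 hj
            by_contra hne
            rcases Nat.lt_or_gt_of_ne hne with hlt | hlt
            · refine hfree r r.2 hr1 (j - i) (by omega) (by omega) (cj_injective n i ?_)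
              rw [cj_cj, Nat.add_sub_cancel' hlt.le]; exact e'.symm
            · refine hfree r r.2 hr1 (i - j) (by omega) (by omega) (cj_injective n j ?_)
              rw [cj_cj, Nat.add_sub_cancel' hlt.le]; exact e'
        have hpT : p ∈ T := Finset.mem_filter.2 ⟨Finset.mem_univ _, hp⟩
        obtain ⟨ho1, ho2⟩ := horbit p hpT
        obtain ⟨r, hr, hro⟩ := Finset.exists_mem_notMem_of_card_lt_card
          (show ((Finset.range 5).image fun i => τ^[i] p).card < T.card by omega)
        obtain ⟨hr1', hr2'⟩ := horbit r hr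
        have hd : Disjoint ((Finset.range 5).image fun i => τ^[i] p)
            ((Finset.range 5).image fun i => τ^[i] r) := by
          refine Finset.disjoint_left.2 fun s hs hs' => hro ?_
          obtain ⟨i, hi, rfl⟩ := Finset.mem_image.1 hs
          obtain ⟨j, hj, e⟩ := Finset.mem_image.1 hs'
          refine Finset.mem_image.2 ⟨(5 - j + i) % 5, Finset.mem_range.2 (Nat.mod_lt _ (by norm_num)), ?_⟩
          have h5' : ∀ (m : ℕ) (z : (P : Subgroup G)), τ^[m % 5] z = τ^[m] z := fun m z => by
            conv_rhs => rw [← Nat.mod_add_div m 5, Function.iterate_add_apply, Function.iterate_mul]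
            congr 1
            exact (Function.iterate_fixed (hτ5 z) _).symm
          rw [h5', Function.iterate_add_apply, ← e, ← Function.iterate_add_apply,
            Nat.sub_add_cancel (Finset.mem_range.1 hj).le, hτ5]
        have := Finset.card_le_card (Finset.union_subset ho1 hr1')
        rw [Finset.card_union_of_disjoint hd] at this
        omega
      have hψinj : Function.Injective ψ := by
        have hsurj : Function.Surjective ψ := fun p => hHtop p
        have hc : Fintype.card (Bool × Bool × Bool × Bool) = Fintype.card (P : Subgroup G) := by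
          rw [← Nat.card_eq_fintype_card (α := (P : Subgroup G)), hcard]; rfl
        exact ((Fintype.bijective_iff_surjective_and_card ψ).2 ⟨hsurj, hc⟩).1
      have hne : ∀ {s t : Bool × Bool × Bool × Bool}, s ≠ t → (ψ s : G) ≠ (ψ t : G) :=
        fun hst e => hst (hψinj (Subtype.ext e))
      set va := val (A 0) χ
      set vb := val (A 0 * A 1) χ
      set vc := val (A 0 * A 2) χ
      have hv : ∀ i, val (A i) χ = va := fun i => by
        simp only [va, A, cj_zero]; exact hvc χ ha ha1 i
      have hab1 : A 0 * A 1 ≠ 1 := fun e => hne (s := (true, true, false, false))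
        (t := (false, false, false, false)) (by decide) (by simpa [ψ, sel, B] using e)
      have hac1 : A 0 * A 2 ≠ 1 := fun e => hne (s := (true, false, true, false))
        (t := (false, false, false, false)) (by decide) (by simpa [ψ, sel, B] using e)
      have e13 : A 1 * A 3 = cj n 1 (A 0 * A 2) := by simp only [A, cj_mul, cj_cj]
      have h1 := dvd_four_group (P := P) χ hsq hab (hAP 0) (hAP 1) (hA1 0) (hA1 1)
        (hAne 1 one_pos (by norm_num)) ((hgood _ (hAP 0) (hA1 0)).val_spec χ)
        ((hgood _ (hAP 1) (hA1 1)).val_spec χ)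
        ((hgood _ (mul_mem (hAP 0) (hAP 1)) hab1).val_spec χ)
      have h2 := dvd_four_group (P := P) χ hsq hab (hAP 0) (hAP 2) (hA1 0) (hA1 2)
        (hAne 2 two_pos (by norm_num)) ((hgood _ (hAP 0) (hA1 0)).val_spec χ)
        ((hgood _ (hAP 2) (hA1 2)).val_spec χ)
        ((hgood _ (mul_mem (hAP 0) (hAP 2)) hac1).val_spec χ)
      have hbd1 : A 1 * A 3 ≠ 1 := fun e => by rw [e13] at e; exact hac1 (cj_eq_one.1 e)
      have hAB : A 0 * A 2 * (A 1 * A 3) = A 4 := by
        show ((B 0 * B 2 * (B 1 * B 3) : (P : Subgroup G)) : G) = (B 4 : G)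
        congr 1
        rw [← hB4]
        ac_rfl
      have hne13 : A 0 * A 2 ≠ A 1 * A 3 := fun e => hne (s := (true, false, true, false))
        (t := (false, true, false, true)) (by decide) (by simpa [ψ, sel, B] using e)
      have h3 := dvd_four_group (P := P) χ hsq hab (mul_mem (hAP 0) (hAP 2))
        (mul_mem (hAP 1) (hAP 3)) hac1 hbd1 hne13
        ((hgood _ (mul_mem (hAP 0) (hAP 2)) hac1).val_spec χ)
        ((hgood _ (mul_mem (hAP 1) (hAP 3)) hbd1).val_spec χ) (vc := val (A 4) χ)
        (hAB ▸ (hgood _ (hAP 4) (hA1 4)).val_spec χ)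
      rw [hv, hv] at h1 h2
      rw [hv, e13, hvc χ (mul_mem (hAP 0) (hAP 2)) hac1] at h3
      change (4 : ℤ) ∣ d + va + va + vb at h1
      change (4 : ℤ) ∣ d + va + va + vc at h2
      change (4 : ℤ) ∣ d + vc + vc + va at h3
      -- every element is conjugate to one of three
      have key : ∀ p ∈ (P : Subgroup G), p ≠ 1 →
          val p χ = va ∨ val p χ = vb ∨ val p χ = vc := by
        intro p hp hp1
        obtain ⟨⟨b0, b1, b2, b3⟩, hb⟩ := hHtop ⟨p, hp⟩
        have hp' : p = (ψ (b0, b1, b2, b3) : G) := congrArg Subtype.val hb.symm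
        have sa : ∀ i, p = A i → val p χ = va := fun i e => by rw [e, hv]
        have sb : ∀ i, p = cj n i (A 0 * A 1) → val p χ = vb := fun i e => by
          rw [e, hvc χ (mul_mem (hAP 0) (hAP 1)) hab1]
        have sc : ∀ i, p = cj n i (A 0 * A 2) → val p χ = vc := fun i e => by
          rw [e, hvc χ (mul_mem (hAP 0) (hAP 2)) hac1]
        have cjA : ∀ i j, cj n i (A 0 * A j) = A i * A (i + j) := fun i j => by
          simp only [A, cj_mul, cj_cj, add_zero]
        have hA6 : A 6 = A 1 := by
          show cj n (1 + 5) a = cj n 1 a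
          rw [← cj_cj, hper a ha]
        have t4 : ∀ r s : (P : Subgroup G), r = s → (r : G) = (s : G) := fun r s e => e ▸ rfl
        cases b0 <;> cases b1 <;> cases b2 <;> cases b3 <;>
          simp only [ψ, sel, cond_true, cond_false, one_mul, mul_one] at hp'
        · exact absurd hp' hp1
        · exact Or.inl (sa 3 hp')
        · exact Or.inl (sa 2 hp')
        · exact Or.inr (Or.inl (sb 2 (by rw [cjA]; exact hp')))
        · exact Or.inl (sa 1 hp')
        · exact Or.inr (Or.inr (sc 1 (by rw [cjA]; exact hp')))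
        · exact Or.inr (Or.inl (sb 1 (by rw [cjA]; exact hp')))
        · refine Or.inr (Or.inl (sb 4 ?_))
          rw [cjA, hA5, hp']
          exact t4 (B 1 * B 2 * B 3) (B 4 * B 0) (by rw [← hB4]; calc
            B 1 * B 2 * B 3 = B 1 * B 2 * B 3 * (B 0 * B 0) := by rw [hBsq, mul_one]
            _ = B 0 * B 1 * B 2 * B 3 * B 0 := by ac_rfl)
        · exact Or.inl (sa 0 hp')
        · refine Or.inr (Or.inr (sc 3 ?_))
          rw [cjA, hA5, hp']
          exact t4 (B 0 * B 3) (B 3 * B 0) (mul_comm _ _)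
        · exact Or.inr (Or.inr (sc 0 (by rw [cj_zero]; exact hp')))
        · refine Or.inr (Or.inr (sc 4 ?_))
          rw [cjA, hA6, hp']
          exact t4 (B 0 * B 2 * B 3) (B 4 * B 1) (by rw [← hB4]; calc
            B 0 * B 2 * B 3 = B 0 * B 2 * B 3 * (B 1 * B 1) := by rw [hBsq, mul_one]
            _ = B 0 * B 1 * B 2 * B 3 * B 1 := by ac_rfl)
        · exact Or.inr (Or.inl (sb 0 (by rw [cj_zero]; exact hp')))
        · refine Or.inr (Or.inr (sc 2 ?_))
          rw [cjA, hp']
          exact t4 (B 0 * B 1 * B 3) (B 2 * B 4) (by rw [← hB4]; calc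
            B 0 * B 1 * B 3 = B 0 * B 1 * B 3 * (B 2 * B 2) := by rw [hBsq, mul_one]
            _ = B 2 * (B 0 * B 1 * B 2 * B 3) := by ac_rfl)
        · refine Or.inr (Or.inl (sb 3 ?_))
          rw [cjA, hp']
          exact t4 (B 0 * B 1 * B 2) (B 3 * B 4) (by rw [← hB4]; calc
            B 0 * B 1 * B 2 = B 0 * B 1 * B 2 * (B 3 * B 3) := by rw [hBsq, mul_one]
            _ = B 3 * (B 0 * B 1 * B 2 * B 3) := by ac_rfl)
        · refine Or.inl (sa 4 ?_)
          rw [hp', hB4]
      intro p hp hp1 r hr hr1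
      have := key p hp hp1
      have := key r hr hr1
      omega
  -- the counting
  set BF := Finset.univ.filter (· ∈ principalBlock M G) with hBF
  obtain ⟨e, he, he', hnn, horthe, htot⟩ := indicator_data hM hsq J hgoodJ hrep hn (L := q)
    (fun j hj i h0 hi => hfree j (hJP j hj).1 (hJP j hj).2 i h0 hi)
  have hrow : ∀ χ ∈ principalBlock M G, ∑ j ∈ J, val j χ ^ 2 < 16 := by
    intro χ hχ
    set w : G → ℕ := fun g => if IsPPart 2 g 1 then 1 else 0 with hw
    have hone : (1 : G → ℂ) = (fun g => (w g : ℂ)) + ∑ j ∈ J, secInd j := by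
      funext g
      obtain ⟨u, hu⟩ := exists_isPPart (G := G) Nat.prime_two g
      simp only [Pi.add_apply, Finset.sum_apply, Pi.one_apply, secInd_eq hu, hw]
      obtain ⟨z, -, -, hord, -⟩ := id hu
      have hu2 := Blk7.two_element_sq P (fun z => Subtype.ext (hsq z z.2)) hord
      by_cases hu1 : u = 1
      · subst hu1
        rw [if_pos hu, Finset.sum_eq_zero fun j hj => if_neg fun hc => (hJP j hj).2
          (isConj_one_right.1 hc)]
        norm_num
      · have hiff : ¬ IsPPart 2 g (1 : G) := fun h =>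
          hu1 (IsPPart.unique Nat.prime_two hu h)
        rw [if_neg hiff]
        obtain ⟨j, ⟨hj, huj⟩, huniq⟩ := hrep u hu2 hu1
        rw [Finset.sum_eq_single_of_mem j hj fun i hi hij => if_neg fun hc => hij (huniq i ⟨hi, hc⟩),
          if_pos huj]
        norm_num
    have h1 := congrArg (fun f => Elem16.Mw f χ χ) hone
    simp only [Elem16.Mw_one, if_true, Elem16.Mw_add] at h1
    have hlin : Elem16.Mw (∑ j ∈ J, secInd j) χ χ = ∑ j ∈ J, Elem16.Mw (secInd j) χ χ := by
      simp only [Elem16.Mw_eq, Finset.sum_apply, Finset.sum_mul, Finset.mul_sum]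
      exact Finset.sum_comm
    have h16 : (16 : ℂ) * ∑ j ∈ J, Elem16.Mw (secInd j) χ χ =
        ((∑ j ∈ J, val j χ ^ 2 : ℤ) : ℂ) := by
      rw [Finset.mul_sum]
      push_cast
      refine Finset.sum_congr rfl fun j hj => ?_
      have := (hgoodJ j hj).Mw_secInd hM hχ hχ
      rw [hcard] at this
      push_cast at this
      rw [this, pow_two]
    rw [hlin] at h1
    have h2 : (16 : ℂ) = 16 * Elem16.Mw (fun g => (w g : ℂ)) χ χ +
        ((∑ j ∈ J, val j χ ^ 2 : ℤ) : ℂ) := by rw [← h16]; linear_combination (16 : ℂ) * h1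
    have hpos : 0 < (Elem16.Mw (fun g => (w g : ℂ)) χ χ).re := by
      refine Elem16.Mw_pos (f := w) (fun g => rfl) (g₀ := 1) ?_ (irr_one_ne_zero χ)
      have h1p : IsPPart 2 (1 : G) 1 := by
        have h := isPPart_mul (x := (1 : G)) (y := (1 : G)) (Commute.one_right _) ⟨0, by simp⟩
          (by simp : ¬ 2 ∣ orderOf (1 : G))
        rwa [mul_one] at h
      simp [hw, h1p]
    have h3 := congrArg Complex.re h2
    simp only [Complex.add_re, Complex.mul_re, Complex.intCast_re, Complex.re_ofNat,
      Complex.im_ofNat, zero_mul, sub_zero] at h3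
    exact_mod_cast (show ((∑ j ∈ J, val j χ ^ 2 : ℤ) : ℝ) < 16 by linarith)
  have hsub : ∀ f : IrrCharacter G → ℤ, ∑ χ ∈ BF, f χ =
      ∑ χ : {χ // χ ∈ principalBlock M G}, f χ := fun f =>
    Finset.sum_subtype _ (fun χ => by simp [hBF]) f
  have hJs : Fintype.card {j // j ∈ J} = 3 ∨ Fintype.card {j // j ∈ J} = 5 := by
    rw [Fintype.card_coe]
    rcases hq with h | h <;> subst h <;> omega
  have hL : (16 : ℤ) ≤ 1 + (J.card : ℤ) * (q : ℤ) := by
    rw [← Nat.cast_mul, hJcard]; norm_num
  have h := eight_of_columns (ι := {χ // χ ∈ principalBlock M G}) (J := {j // j ∈ J})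
    (fun j χ => val j.1 χ.1) (fun χ => e χ.1) (fun χ => (charDegree (χ.1 : G → ℂ) : ℤ))
    ⟨principalIrr G, principalIrr_mem' hM⟩
    (fun j χ => (hgoodJ j.1 j.2).val_ne_zero hM χ.2)
    (fun i j χ => hcong χ.1 i.1 (hJP i.1 i.2).1 (hJP i.1 i.2).2 j.1 (hJP j.1 j.2).1 (hJP j.1 j.2).2)
    (fun χ => by rw [Finset.sum_coe_sort J (fun j => val j χ.1 ^ 2)]; exact hrow χ.1 χ.2)
    (fun j => by
      rw [← hsub (fun χ => val j.1 χ ^ 2), hBF, (hgoodJ j.1 j.2).sum_sq hM, hcard]; norm_num)
    (fun i j hij => by
      rw [← hsub (fun χ => val i.1 χ * val j.1 χ)]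
      exact (hgoodJ i.1 i.2).orth (hgoodJ j.1 j.2) hM fun hc =>
        hij (Subtype.ext (hJne i.1 i.2 j.1 j.2 hc)))
    (fun χ => he χ.1)
    (fun χ => by rw [Finset.sum_coe_sort J (fun j => val j χ.1)]; exact hnn χ.1 χ.2)
    (by
      refine (hL.trans htot).trans_eq ?_
      rw [hsub (fun χ => e χ + ∑ j ∈ J, val j χ)]
      exact Finset.sum_congr rfl fun χ _ => by rw [Finset.sum_coe_sort J (fun j => val j χ.1)])
    (fun j => (hgoodJ j.1 j.2).val_principal)
    (fun χ => by exact_mod_cast (CfsgLib.ClassCount.degree_eq χ.1).2.2)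
    (fun j => by
      rw [← hsub (fun χ => (charDegree (χ : G → ℂ) : ℤ) * val j.1 χ)]
      exact (hgoodJ j.1 j.2).degree_orth hM)
    hJs
  rw [Nat.card_eq_fintype_card]
  exact h

end CfsgLib.AbelTwo
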