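import Cfsg.Agent.S0949
import Cfsg.Agent.Lib.Blocks.SingleBlock
import Cfsg.Agent.Lib.Chars17.IrrBasic
import Cfsg.Agent.Lib.Blocks.Kernel
import Mathlib.GroupTheory.CommutingProbability

/-!
# The principal block with a homocyclic Sylow subgroup of order 16 and a fixed point free automiser
-/

set_option autoImplicit false
set_option linter.unusedSectionVars false
set_option linter.style.haveILetI false
set_option linter.unusedVariables false
set_option maxHeartbeats 800000

noncomputable section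

namespace CfsgLib.AbelTwo

open Cfsg CfsgLib.Characters CfsgLib.Blocks
open scoped ComplexConjugate Classical

universe u

variable {K : Type u} [Group K] [Fintype K] {M : Ideal AlgInt}

/-- The class size downstairs divides the class size upstairs. -/
theorem index_centralizer_dvd {B : Type u} [Group B] (f : K →* B) (hf : Function.Surjective f)
    (a : K) : (Subgroup.centralizer ({f a} : Set B)).index ∣
      (Subgroup.centralizer ({a} : Set K)).index := by
  refine dvd_trans ?_ (Subgroup.index_map_dvd (Subgroup.centralizer ({a} : Set K)) hf)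
  refine Subgroup.index_dvd_of_le ?_
  rintro _ ⟨c, hc, rfl⟩
  rw [Subgroup.mem_centralizer_singleton_iff, ← map_mul, ← map_mul,
    Subgroup.mem_centralizer_singleton_iff.1 hc]

/-- If the quotient by the odd core has one block, the principal block is everything inflated. -/
theorem card_principalBlock_of_quotient (hM : IsPModular 2 M) (O : Subgroup K) [O.Normal]
    (hO : ¬ 2 ∣ Nat.card O) (huniv : principalBlock M (K ⧸ O) = Set.univ) :
    Nat.card (principalBlock M K) = Nat.card (IrrCharacter (K ⧸ O)) := by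
  set f := QuotientGroup.mk' O
  have hf : Function.Surjective f := QuotientGroup.mk'_surjective O
  have hmem : ∀ φ, Chars17.infl O φ ∈ principalBlock M K := by
    intro φ g
    have hφ : φ ∈ principalBlock M (K ⧸ O) := by rw [huniv]; trivial
    obtain ⟨r, hr⟩ := index_centralizer_dvd f hf g
    have h1 : centralChar (fun _ : K => (1 : ℂ)) g =
        (r : ℂ) * centralChar (fun _ : K ⧸ O => (1 : ℂ)) (f g) := by
      simp only [centralChar, hr]; push_cast; ring
    have h2 : centralChar (Chars17.infl O φ : K → ℂ) g =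
        (r : ℂ) * centralChar (φ : K ⧸ O → ℂ) (f g) := by
      simp only [centralChar, hr, Chars17.infl_apply, QuotientGroup.mk_one]
      simp only [f, QuotientGroup.mk'_apply]
      push_cast; ring
    rw [h1, h2, ← mul_sub]
    exact MemLocalIdeal.mul_left hM (natCast_mem (lRing hM) r) (hφ (f g))
  refine (Nat.card_eq_of_bijective
    (fun φ => (⟨Chars17.infl O φ, hmem φ⟩ : principalBlock M K)) ⟨?_, ?_⟩).symm
  · exact fun φ ψ h => Chars17.infl_injective O (congrArg Subtype.val h)
  · rintro ⟨χ, hχ⟩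
    obtain ⟨φ, hφ⟩ := Chars17.exists_infl_eq O (χ := χ) fun k hk =>
      Chars17.mem_irrKer.2 (principalBlock_kernel hM hχ hO hk)
    exact ⟨φ, Subtype.ext hφ⟩

/-- A group of order 48 with a self-centralising normal abelian subgroup of index three. -/
theorem card_conjClasses_forty_eight {Q : Type u} [Group Q] [Finite Q] (A : Subgroup Q) [A.Normal]
    (hab : ∀ a ∈ A, ∀ b ∈ A, a * b = b * a) (hcard : Nat.card A = 16) (hidx : A.index = 3)
    {n : Q} (hn : ∀ a ∈ A, n * a * n⁻¹ = a → a = 1) : Nat.card (ConjClasses Q) = 8 := by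
  haveI := Fintype.ofFinite Q
  have hnA : n ∉ A := by
    intro h
    have hbot : A = ⊥ := (Subgroup.eq_bot_iff_forall _).2 fun a ha =>
      hn a ha (by rw [hab n h a ha, mul_inv_cancel_right])
    rw [hbot, Subgroup.card_bot] at hcard
    omega
  have h3 : Nat.card (Q ⧸ A) = 3 := by rw [← Subgroup.index_eq_card]; exact hidx
  haveI : Fact (Nat.Prime 3) := ⟨Nat.prime_three⟩
  -- outside `A` nothing of `A` is fixed
  have hfree : ∀ g : Q, g ∉ A → ∀ a ∈ A, a ≠ 1 → g * a ≠ a * g := by
    intro g hg a ha ha1 hga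
    refine ha1 (hn a ha ?_)
    have hgne : (g : Q ⧸ A) ≠ 1 := fun h => hg ((QuotientGroup.eq_one_iff g).1 h)
    have hgen := mem_zpowers_of_prime_card (G := Q ⧸ A) h3 hgne (g' := (n : Q ⧸ A))
    obtain ⟨j, hj⟩ := Subgroup.mem_zpowers_iff.1 hgen
    have hm : (g ^ j)⁻¹ * n ∈ A := QuotientGroup.eq.1 (by rw [QuotientGroup.mk_zpow]; exact hj)
    have h1 : g ^ j * a = a * g ^ j := (Commute.zpow_left (show Commute g a from hga) j).eq
    calc n * a * n⁻¹ = g ^ j * ((g ^ j)⁻¹ * n * a * ((g ^ j)⁻¹ * n)⁻¹) * (g ^ j)⁻¹ := by group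
      _ = g ^ j * a * (g ^ j)⁻¹ := by rw [hab _ hm a ha, mul_inv_cancel_right]
      _ = a := by rw [h1, mul_inv_cancel_right]
  have hcent : ∀ g : Q, Nat.card (Subgroup.centralizer ({g} : Set Q)) =
      if g = 1 then 48 else if g ∈ A then 16 else 3 := by
    intro g
    set C := Subgroup.centralizer ({g} : Set Q)
    have hmemC : ∀ {c : Q}, c ∈ C ↔ c * g = g * c := Subgroup.mem_centralizer_singleton_iff
    split_ifs with h1 hA
    · subst h1
      have : C = ⊤ := eq_top_iff.2 fun c _ => hmemC.2 (by rw [mul_one, one_mul])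
      rw [this, Subgroup.card_top, ← A.card_mul_index, hcard, hidx]
    · have : C = A := le_antisymm (fun c hc => by
          by_contra hcA
          exact hfree c hcA g hA h1 (hmemC.1 hc))
        fun c hc => hmemC.2 (hab c hc g hA)
      rw [this, hcard]
    · have hinj : Function.Injective fun c : C => ((c : Q) : Q ⧸ A) := by
        intro c d h
        have hm : (c : Q)⁻¹ * d ∈ A := QuotientGroup.eq.1 h
        have hcomm : g * ((c : Q)⁻¹ * d) = (c : Q)⁻¹ * d * g :=
          (hmemC.1 (mul_mem (inv_mem c.2) d.2)).symm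
        by_contra hne
        exact hfree g hA _ hm (fun e => hne (Subtype.ext (inv_mul_eq_one.1 e))) hcomm
      have hle := Nat.card_le_card_of_injective _ hinj
      rw [h3] at hle
      haveI : Nontrivial C := ⟨⟨⟨g, hmemC.2 rfl⟩, 1, fun e => h1 (congrArg Subtype.val e)⟩⟩
      have h2 : 1 < Nat.card C := Finite.one_lt_card
      have h48 : Nat.card C ∣ 48 := by
        have := C.card_subgroup_dvd_card
        rwa [← A.card_mul_index, hcard, hidx] at this
      by_contra hne
      have hC2 : Nat.card C = 2 := by omega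
      -- an element of order two lies in `A`
      have hg2 : orderOf g = 2 := by
        have hd := Subgroup.orderOf_dvd_natCard (x := g) C (hmemC.2 rfl)
        rw [hC2] at hd
        exact ((Nat.dvd_prime Nat.prime_two).1 hd).resolve_left fun e => h1 (orderOf_eq_one_iff.1 e)
      refine hA ((QuotientGroup.eq_one_iff g).1 (orderOf_eq_one_iff.1 ?_))
      have hd2 : orderOf (g : Q ⧸ A) ∣ 2 :=
        hg2 ▸ orderOf_map_dvd (QuotientGroup.mk' A) g
      have hd3 : orderOf (g : Q ⧸ A) ∣ 3 := h3 ▸ orderOf_dvd_natCard _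
      exact Nat.dvd_one.1 ((by norm_num : Nat.gcd 2 3 = 1) ▸ Nat.dvd_gcd hd2 hd3)
  have hQ : Nat.card Q = 48 := by rw [← A.card_mul_index, hcard, hidx]
  have hpairs : Nat.card {p : Q × Q // Commute p.1 p.2} = 384 := by
    rw [Nat.card_congr ((Equiv.subtypeProdEquivSigmaSubtype fun a b : Q => Commute a b).trans
      (Equiv.sigmaCongrRight fun a => Equiv.subtypeEquivRight fun b =>
        (show Commute a b ↔ b ∈ Subgroup.centralizer ({a} : Set Q) from
          ⟨fun h => Subgroup.mem_centralizer_singleton_iff.2 h.symm,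
            fun h => (Subgroup.mem_centralizer_singleton_iff.1 h).symm⟩))), Nat.card_sigma]
    simp only [hcent]
    rw [Finset.sum_ite, Finset.sum_ite, Finset.sum_const, Finset.sum_const, Finset.sum_const]
    have e1 : (Finset.univ.filter fun g : Q => g = 1).card = 1 := by
      exact Finset.card_eq_one.2 ⟨1, by ext g; simp⟩
    have e2 : ((Finset.univ.filter fun g : Q => ¬ g = 1).filter fun g => g ∈ A).card = 15 := by
      have e : (Finset.univ.filter fun g : Q => ¬ g = 1).filter (fun g => g ∈ A) =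
          (Finset.univ.filter fun g : Q => g ∈ A).erase 1 := by
        ext g; simp [and_comm]
      rw [e, Finset.card_erase_of_mem (by simp [one_mem]), ← Fintype.card_subtype,
        ← Nat.card_eq_fintype_card, hcard]
    have e3 : ((Finset.univ.filter fun g : Q => ¬ g = 1).filter fun g => ¬ g ∈ A).card = 32 := by
      have h := Finset.card_filter_add_card_filter_not
        (s := Finset.univ.filter fun g : Q => ¬ g = 1) (fun g => g ∈ A)
      have h' := Finset.card_filter_add_card_filter_not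
        (s := (Finset.univ : Finset Q)) (fun g => g = 1)
      rw [Finset.card_univ, ← Nat.card_eq_fintype_card, hQ, e1] at h'
      rw [e2] at h
      omega
    rw [e1, e2, e3]
    rfl
  have h := card_comm_eq_card_conjClasses_mul_card Q
  rw [hpairs, hQ] at h
  omega

/-- A commutative group of order 16 whose squares form a four-group is `C₄ × C₄`. -/
theorem exists_equiv_homocyclic {A : Type u} [CommGroup A] [Finite A] (hcard : Nat.card A = 16)
    (h4 : ∀ a : A, a ^ 4 = 1) {a b : A} (ha : a ^ 2 ≠ 1) (hb : b ^ 2 ≠ 1) (hne : a ^ 2 ≠ b ^ 2) :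
    Nonempty (A ≃* Multiplicative (ZMod (2 ^ 2) × ZMod (2 ^ 2))) := by
  show Nonempty (A ≃* Multiplicative (ZMod 4 × ZMod 4))
  let z : A → (ZMod 4 →+ Additive A) := fun c => ZMod.lift 4 ⟨zmultiplesHom (Additive A)
    (Additive.ofMul c), by
      show ((4 : ℕ) : ℤ) • Additive.ofMul c = 0
      rw [natCast_zsmul, ← ofMul_pow, h4, ofMul_one]⟩
  let f : Multiplicative (ZMod 4 × ZMod 4) →* A :=
    AddMonoidHom.toMultiplicativeLeft ((z a).coprod (z b))
  have hz : ∀ (c : A) (i : ℕ), Additive.toMul (z c (i : ZMod 4)) = c ^ i := fun c i => by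
    show Additive.toMul (ZMod.lift 4 _ ((i : ℤ) : ZMod 4)) = c ^ i
    simp only [Int.cast_natCast]
    rw [← Int.cast_natCast (R := ZMod 4), ZMod.lift_coe]
    simp [zmultiplesHom_apply]
  have hf : ∀ i j : ℕ, f (Multiplicative.ofAdd ((i : ZMod 4), (j : ZMod 4))) = a ^ i * b ^ j :=
    fun i j => by
      show Additive.toMul (z a (i : ZMod 4) + z b (j : ZMod 4)) = _
      rw [toMul_add, hz, hz]
  have hinj : Function.Injective f := by
    refine (injective_iff_map_eq_one f).2 fun w hw => ?_
    obtain ⟨⟨i, j⟩, rfl⟩ := (Multiplicative.ofAdd).surjective w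
    rw [← ZMod.natCast_zmod_val i, ← ZMod.natCast_zmod_val j] at hw ⊢
    rw [hf] at hw
    have hi := ZMod.val_lt i; have hj := ZMod.val_lt j
    have ha4 := h4 a; have hb4 := h4 b
    have h2 : (a ^ 2) ^ i.val * (b ^ 2) ^ j.val = 1 := by
      rw [← pow_mul, ← pow_mul, mul_comm 2, mul_comm 2, pow_mul, pow_mul, ← mul_pow, hw, one_pow]
    have hb22 : b ^ 2 * b ^ 2 = 1 := by rw [← pow_add]; exact hb4
    have ha22 : a ^ 2 * a ^ 2 = 1 := by rw [← pow_add]; exact ha4
    have key : i.val % 2 = 0 ∧ j.val % 2 = 0 := by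
      have e : ∀ (c : A), c * c = 1 → ∀ k : ℕ, c ^ k = if k % 2 = 0 then 1 else c := fun c hc k => by
        conv_lhs => rw [← Nat.mod_add_div k 2, pow_add, pow_mul, pow_two, hc, one_pow, mul_one]
        rcases Nat.mod_two_eq_zero_or_one k with h | h <;> simp [h]
      rw [e _ ha22, e _ hb22] at h2
      rcases Nat.mod_two_eq_zero_or_one i.val with h | h <;>
        rcases Nat.mod_two_eq_zero_or_one j.val with h' | h' <;> simp [h, h'] at h2 ⊢
      · exact hb h2
      · exact ha h2
      · exact hne (mul_right_cancel (h2.trans hb22.symm))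
    have hi0 : i.val = 0 ∧ j.val = 0 := by
      rcases (show i.val = 0 ∨ i.val = 2 by omega) with h | h <;>
        rcases (show j.val = 0 ∨ j.val = 2 by omega) with h' | h' <;> rw [h, h'] at hw
      · exact ⟨h, h'⟩
      · rw [pow_zero, one_mul] at hw; exact absurd hw hb
      · rw [pow_zero, mul_one] at hw; exact absurd hw ha
      · exact absurd (mul_right_cancel (hw.trans hb22.symm)) hne
    rw [hi0.1, hi0.2, Nat.cast_zero]
    rfl
  have hc : Nat.card (Multiplicative (ZMod 4 × ZMod 4)) = Nat.card A := by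
    rw [hcard, Nat.card_congr Multiplicative.toAdd, Nat.card_prod, Nat.card_zmod]
  exact ⟨(MulEquiv.ofBijective f (hinj.bijective_of_nat_card_le hc.ge)).symm⟩

/-- Eight characters when the Sylow subgroup is `C₄ × C₄` with a fixed point free automiser. -/
theorem homocyclic_eight (hM : IsPModular 2 M) (P : Sylow 2 K) (hcard : Nat.card (P : Subgroup K) = 16)
    (hab : ∀ a ∈ (P : Subgroup K), ∀ b ∈ (P : Subgroup K), a * b = b * a)
    (h4 : ∀ a ∈ (P : Subgroup K), a ^ 4 = 1) {a b : K} (ha : a ∈ (P : Subgroup K))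
    (hb : b ∈ (P : Subgroup K)) (ha2 : a ^ 2 ≠ 1) (hb2 : b ^ 2 ≠ 1) (hne : a ^ 2 ≠ b ^ 2)
    {n : K} (hn : n ∈ Subgroup.normalizer ((P : Subgroup K) : Set K))
    (hfix : ∀ p ∈ (P : Subgroup K), n * p * n⁻¹ = p → p = 1) :
    Nat.card (principalBlock M K) = 8 := by
  haveI : Fact (Nat.Prime 2) := ⟨Nat.prime_two⟩
  set O := pPrimeCore 2 K
  haveI : O.Normal := pPrimeCore_normal 2 K
  have hO : ¬ 2 ∣ Nat.card O := (Nat.prime_two.coprime_iff_not_dvd).1
    (Nat.coprime_comm.1 CfsgLib.PCore.pPrimeCore_coprime)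
  set f := QuotientGroup.mk' O with hfdef
  have hf : Function.Surjective f := QuotientGroup.mk'_surjective O
  have hinjP : ∀ p ∈ (P : Subgroup K), f p = 1 → p = 1 := by
    intro p hp h
    have hpO : p ∈ O := (QuotientGroup.eq_one_iff p).1 h
    obtain ⟨k, hk⟩ := IsPGroup.iff_orderOf.1 P.2 ⟨p, hp⟩
    rw [← Subgroup.orderOf_coe] at hk
    rcases Nat.eq_zero_or_pos k with hk0 | hk0
    · rw [hk0, pow_zero] at hk; exact orderOf_eq_one_iff.1 hk
    · exact absurd ((dvd_pow_self 2 hk0.ne').trans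
        (hk ▸ Subgroup.orderOf_dvd_natCard O hpO)) hO
  set P' : Sylow 2 (K ⧸ O) := P.mapSurjective hf
  have hP' : (P' : Subgroup (K ⧸ O)) = (P : Subgroup K).map f := rfl
  have hinjr : Function.Injective (f.domRestrict (P : Subgroup K)) :=
    (injective_iff_map_eq_one _).2 fun p h => Subtype.ext (hinjP p p.2 h)
  have hcard' : Nat.card (P' : Subgroup (K ⧸ O)) = 16 := by
    rw [hP', ← MonoidHom.domRestrict_range, ← Nat.card_congr (MonoidHom.ofInjective hinjr).toEquiv]
    exact hcard
  have hab' : ∀ x ∈ (P' : Subgroup (K ⧸ O)), ∀ y ∈ (P' : Subgroup (K ⧸ O)), x * y = y * x := by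
    rintro _ ⟨x, hx, rfl⟩ _ ⟨y, hy, rfl⟩
    rw [← map_mul, ← map_mul, hab x hx y hy]
  obtain ⟨e⟩ : Nonempty ((P' : Subgroup (K ⧸ O)) ≃* Multiplicative (ZMod (2 ^ 2) × ZMod (2 ^ 2))) := by
    letI : CommGroup (P' : Subgroup (K ⧸ O)) :=
      { (inferInstance : Group (P' : Subgroup (K ⧸ O))) with
        mul_comm := fun s t => Subtype.ext (hab' s s.2 t t.2) }
    have hsq : ∀ {c : K}, c ∈ (P : Subgroup K) → c ^ 2 ≠ 1 → (f c) ^ 2 ≠ 1 := fun hc h h' =>
      h (hinjP _ (pow_mem hc 2) (by rw [map_pow]; exact h'))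
    refine exists_equiv_homocyclic hcard' (fun x => ?_) (a := ⟨f a, ⟨a, ha, rfl⟩⟩)
      (b := ⟨f b, ⟨b, hb, rfl⟩⟩) (fun h => hsq ha ha2 (congrArg Subtype.val h))
      (fun h => hsq hb hb2 (congrArg Subtype.val h)) fun h => hne ?_
    · obtain ⟨c, hc, hcx⟩ := x.2
      exact Subtype.ext (show (x : K ⧸ O) ^ 4 = 1 by rw [← hcx, ← map_pow, h4 c hc, map_one])
    · have h' : f (a ^ 2) = f (b ^ 2) := by rw [map_pow, map_pow]; exact congrArg Subtype.val h
      have := hinjP (a ^ 2 * (b ^ 2)⁻¹) (mul_mem (pow_mem ha 2) (inv_mem (pow_mem hb 2)))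
        (by rw [map_mul, map_inv, h', mul_inv_cancel])
      exact mul_inv_eq_one.1 this
  have hodd : ∀ N : Subgroup (K ⧸ O), N.Normal → Odd (Nat.card N) → N = ⊥ := by
    intro N hN hodd
    refine le_bot_iff.1 ((CfsgLib.PCore.le_pPrimeCore_of_not_dvd (p := 2) hN ?_).trans_eq
      (CfsgLib.PCore.pPrimeCore_quotient_pPrimeCore (p := 2) (G := K)))
    rwa [Nat.two_dvd_ne_zero, ← Nat.odd_iff]
  obtain ⟨hnorm, hC, hidx⟩ := Cfsg.Agent.S0949.result P' 2 le_rfl e hodd
  haveI := hnorm
  have hfix' : ∀ y ∈ (P' : Subgroup (K ⧸ O)), f n * y * (f n)⁻¹ = y → y = 1 := by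
    rintro _ ⟨p, hp, rfl⟩ h
    have hmem : n * p * n⁻¹ * p⁻¹ ∈ (P : Subgroup K) :=
      mul_mem ((Subgroup.mem_normalizer_iff.1 hn p).1 hp) (inv_mem hp)
    rw [hfix p hp (mul_inv_eq_one.1 (hinjP _ hmem (by simp [h]))), map_one]
  have hidx3 : (P' : Subgroup (K ⧸ O)).index = 3 := by
    refine hidx.resolve_left fun h1 => ?_
    have ht : (P' : Subgroup (K ⧸ O)) = ⊤ := Subgroup.index_eq_one.1 h1
    have hbot : (P' : Subgroup (K ⧸ O)) = ⊥ := (Subgroup.eq_bot_iff_forall _).2 fun y hy =>
      hfix' y hy (by rw [hab' (f n) (ht ▸ Subgroup.mem_top _) y hy, mul_inv_cancel_right])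
    rw [hbot, Subgroup.card_bot] at hcard'
    omega
  rw [card_principalBlock_of_quotient hM O hO
      (CfsgLib.SingleBlock.principalBlock_eq_univ hM (P' : Subgroup (K ⧸ O)) P'.2 hC.le),
    card_irr_eq_card_conjClasses]
  exact card_conjClasses_forty_eight (P' : Subgroup (K ⧸ O)) hab' hcard' hidx3 hfix'

end CfsgLib.AbelTwo
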