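import Cfsg.Agent.Lib.AbelTwo.Sections
import Cfsg.Agent.Lib.Blocks.BrauerMap
import Mathlib.LinearAlgebra.Eigenspace.Minpoly
import Mathlib.LinearAlgebra.Eigenspace.Zero

/-!
# A lower bound for the multiplicities in the permutation character on a class of involutions

If `n` normalises the abelian Sylow subgroup and moves the involution `x` through `L` different
conjugates, the multiplicities of the principal block in `(1_{C(x)})^G` add up to at least `L`:
on the cosets fixed by the Sylow subgroup, modulo 2, the double coset of `n` acts as a shift, and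
a shift of that length satisfies no polynomial of smaller degree.
-/

set_option autoImplicit false
set_option linter.unusedSectionVars false
set_option linter.unusedVariables false
set_option linter.style.haveILetI false
set_option maxHeartbeats 1000000

noncomputable section

namespace CfsgLib.AbelTwo

open Cfsg CfsgLib.Characters CfsgLib.Blocks Polynomial
open scoped ComplexConjugate Classical

universe u

theorem isIntegral_coeff_prod (s : Multiset ℂ) (hs : ∀ μ ∈ s, IsIntegral ℤ μ) :
    ∀ i, IsIntegral ℤ ((s.map fun μ => X - Polynomial.C μ).prod.coeff i) := by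
  induction s using Multiset.induction with
  | empty =>
    intro i
    simp only [Multiset.map_zero, Multiset.prod_zero, coeff_one]
    split_ifs
    · exact isIntegral_one
    · exact isIntegral_zero
  | cons a s ih =>
    intro i
    rw [Multiset.map_cons, Multiset.prod_cons, sub_mul, coeff_sub, coeff_C_mul]
    refine IsIntegral.sub ?_ ((hs a (Multiset.mem_cons_self a s)).mul
      (ih (fun μ hμ => hs μ (Multiset.mem_cons_of_mem hμ)) i))
    cases i with
    | zero => rw [coeff_X_mul_zero]; exact isIntegral_zero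
    | succ i => rw [coeff_X_mul]; exact ih (fun μ hμ => hs μ (Multiset.mem_cons_of_mem hμ)) i

/-- The characteristic polynomial of an endomorphism killed by a monic integral polynomial has
integral coefficients. -/
theorem isIntegral_coeff_charpoly {V : Type*} [AddCommGroup V] [Module ℂ V] [FiniteDimensional ℂ V]
    (D : Module.End ℂ V) (r : ℤ[X]) (hr : r.Monic) (h0 : aeval D (r.map (Int.castRingHom ℂ)) = 0)
    (i : ℕ) : IsIntegral ℤ (D.charpoly.coeff i) := by
  rw [show D.charpoly = (D.charpoly.roots.map fun μ => X - Polynomial.C μ).prod from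
    (IsAlgClosed.splits D.charpoly).eq_prod_roots_of_monic D.charpoly_monic]
  refine isIntegral_coeff_prod _ (fun μ hμ => ⟨r, hr, ?_⟩) i
  have h1 : Module.End.HasEigenvalue D μ :=
    (Module.End.hasEigenvalue_iff_isRoot_charpoly D μ).2 (isRoot_of_mem_roots hμ)
  have h2 := (Module.End.isRoot_of_hasEigenvalue h1).dvd (minpoly.dvd ℂ D h0)
  rw [IsRoot, eval_map] at h2
  simpa [algebraMap_int_eq] using h2

variable {G : Type u} [Group G] [Fintype G] [hp2 : Fact (Nat.Prime 2)] {M : Ideal AlgInt}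
variable {P : Sylow 2 G} {x : G}

theorem congr_fixed (hM : IsPModular 2 M) {Q X : Type*} [Group Q] [MulAction Q X] [Fintype X]
    (hQ : IsPGroup 2 Q) (f : X → ℂ) (hf : ∀ a, f a ∈ lRing hM)
    (hinv : ∀ (u : Q) (a : X), f (u • a) = f a) :
    MemLocalIdeal M (∑ a, f a - ∑ a ∈ Finset.univ.filter (· ∈ MulAction.fixedPoints Q X), f a) := by
  haveI := IsPModular.isMaximal hM
  haveI := charP_residue hM
  have hA : ∀ a : AlgInt ⧸ M, 2 • a = 0 := fun a => by
    rw [nsmul_eq_mul, CharP.cast_eq_zero, zero_mul]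
  have h := BlockAlg.sum_eq_sum_fixed hA hQ (fun a => lRes hM (⟨f a, hf a⟩ : lRing hM))
    fun u a => congrArg _ (Subtype.ext (hinv u a))
  rw [← map_sum, ← map_sum] at h
  have h2 := (lRes_eq_iff hM _ _).1 h
  push_cast at h2
  exact h2

/-- Functions of the two-sided cosets of `C`. -/
def Bi (C : Subgroup G) (f : G → ℂ) : Prop :=
  ∀ c ∈ C, ∀ g : G, f (c * g) = f g ∧ f (g * c) = f g

/-- The left cosets in the double coset of `n`. -/
def dcos (C : Subgroup G) (n : G) : Finset (G ⧸ C) :=
  Finset.univ.filter fun ω => ∃ c : C, ((c : G) * n : G) = ω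

theorem mem_dcos_smul {C : Subgroup G} {n : G} {ω : G ⧸ C} (hω : ω ∈ dcos C n) {c : G} (hc : c ∈ C) :
    c • ω ∈ dcos C n := by
  obtain ⟨d, rfl⟩ := (Finset.mem_filter.1 hω).2
  refine Finset.mem_filter.2 ⟨Finset.mem_univ _, ⟨⟨c, hc⟩ * d, ?_⟩⟩
  rw [MulAction.Quotient.smul_coe, smul_eq_mul, Subgroup.coe_mul, mul_assoc]

/-- The operator of the double coset. -/
def dop (C : Subgroup G) (n : G) : (G → ℂ) →ₗ[ℂ] (G → ℂ) where
  toFun f g := ∑ ω ∈ dcos C n, f (ω.out⁻¹ * g)
  map_add' f f' := funext fun g => by simp [Finset.sum_add_distrib]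
  map_smul' a f := funext fun g => by simp [Finset.mul_sum]

theorem dop_apply (C : Subgroup G) (n : G) (f : G → ℂ) (g : G) :
    dop C n f g = ∑ ω ∈ dcos C n, f (ω.out⁻¹ * g) := rfl

theorem out_smul (C : Subgroup G) (c : G) (ω : G ⧸ C) :
    ∃ d ∈ C, (c • ω).out = c * ω.out * d := by
  have h : ((c • ω).out : G ⧸ C) = ((c * ω.out : G) : G ⧸ C) := by
    conv_rhs => rw [← smul_eq_mul, ← MulAction.Quotient.smul_coe, QuotientGroup.out_eq']
    exact QuotientGroup.out_eq' _
  exact ⟨(c * ω.out)⁻¹ * (c • ω).out, QuotientGroup.eq.1 h.symm, by group⟩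

theorem dop_bi {C : Subgroup G} {n : G} {f : G → ℂ} (hf : Bi C f) : Bi C (dop C n f) := by
  intro c hc g
  constructor
  · simp only [dop_apply]
    refine Finset.sum_bij' (fun ω _ => c⁻¹ • ω) (fun ω _ => c • ω)
      (fun ω hω => mem_dcos_smul hω (inv_mem hc)) (fun ω hω => mem_dcos_smul hω hc)
      (fun ω _ => smul_inv_smul c ω) (fun ω _ => inv_smul_smul c ω) (fun ω _ => ?_)
    obtain ⟨d, hd, he⟩ := out_smul C c⁻¹ ω
    rw [he, show (c⁻¹ * ω.out * d)⁻¹ * g = d⁻¹ * (ω.out⁻¹ * (c * g)) by group,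
      (hf _ (inv_mem hd) _).1]
  · simp only [dop_apply]
    exact Finset.sum_congr rfl fun ω _ => by rw [← mul_assoc, (hf c hc _).2]

theorem Good.mem_of_commute (h : Good P x) {z : G}
    (hz : ∀ q ∈ (P : Subgroup G), q * z = z * q) (hzp : ∃ k : ℕ, orderOf z = 2 ^ k) :
    z ∈ (P : Subgroup G) := by
  obtain ⟨k, hk⟩ := hzp
  have hn : z ∈ Subgroup.normalizer ((P : Subgroup G) : Set G) :=
    Subgroup.mem_normalizer_iff.2 fun q => ⟨fun hq => by rwa [← hz q hq, mul_inv_cancel_right],
      fun hq => by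
        have h1 := hz _ hq
        have h2 : z * q * z⁻¹ = q := by
          calc z * q * z⁻¹ = z⁻¹ * (z * (z * q * z⁻¹)) := by group
            _ = z⁻¹ * (z * q * z⁻¹ * z) := by rw [h1]
            _ = q := by group
        rwa [h2] at hq⟩
  have h1 : IsPGroup 2 (Subgroup.zpowers z ⊔ (P : Subgroup G) : Subgroup G) :=
    (IsPGroup.of_card ((Nat.card_zpowers z).trans hk)).to_sup_of_normal_right' P.2
      (Subgroup.zpowers_le.2 hn)
  rw [← P.3 h1 le_sup_right]
  exact (le_sup_left : Subgroup.zpowers z ≤ _) (Subgroup.mem_zpowers z)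

/-- In the centraliser two conjugate elements of the Sylow subgroup are equal. -/
theorem Good.conj_eq (h : Good P x) {c y : G} (hc : c * x = x * c) (hy : y ∈ (P : Subgroup G))
    (hcy : c * y * c⁻¹ ∈ (P : Subgroup G)) : c * y * c⁻¹ = y := by
  set C := Subgroup.centralizer ({x} : Set G)
  have hle := le_centralizer_of_comm h.comm h.mem
  haveI := CfsgLib.Transfer.pResidual_normal (G := C) (p := 2)
  have hbot := (CfsgLib.Transfer.hasNormalPComplement_iff_inf_eq_bot (P.subtype hle)).1 h.compl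
  obtain ⟨r, hr, q, hq, hrq⟩ := Subgroup.mem_sup_of_normal_left.1
    ((sup_comm (a := ((P.subtype hle : Sylow 2 C) : Subgroup C)) (b := pResidual 2 C)).symm.trans
      (CfsgLib.Transfer.sylow_sup_pResidual (P.subtype hle)) ▸
        Subgroup.mem_top (⟨c, Subgroup.mem_centralizer_singleton_iff.2 hc⟩ : C) :
      (⟨c, Subgroup.mem_centralizer_singleton_iff.2 hc⟩ : C) ∈
        pResidual 2 C ⊔ ((P.subtype hle : Sylow 2 C) : Subgroup C))
  have hcq : c = (r : G) * (q : G) := congrArg Subtype.val hrq.symm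
  have hqy : (q : G) * y * (q : G)⁻¹ = y := by
    rw [h.comm _ (Subgroup.mem_subgroupOf.1 hq) _ hy, mul_inv_cancel_right]
  have he : c * y * c⁻¹ = (r : G) * y * (r : G)⁻¹ := by
    rw [hcq]; conv_rhs => rw [← hqy]
    group
  set y' : C := ⟨y, hle hy⟩
  have h1 : r * y' * r⁻¹ * y'⁻¹ ∈ ((P.subtype hle : Sylow 2 C) : Subgroup C) ⊓ pResidual 2 C := by
    refine Subgroup.mem_inf.2 ⟨?_, ?_⟩
    · show ((r * y' * r⁻¹ * y'⁻¹ : C) : G) ∈ (P : Subgroup G)
      simp only [Subgroup.coe_mul, InvMemClass.coe_inv, y', ← he]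
      exact mul_mem hcy (inv_mem hy)
    · rw [show r * y' * r⁻¹ * y'⁻¹ = r * (y' * r⁻¹ * y'⁻¹) by group]
      exact mul_mem hr (Subgroup.Normal.conj_mem ‹_› _ (inv_mem hr) y')
  rw [hbot, Subgroup.mem_bot, mul_inv_eq_one] at h1
  rw [he]
  exact congrArg Subtype.val h1

/-- The double coset operator is the shift on the normaliser, modulo the ideal. -/
theorem Good.dop_congr (h : Good P x) (hM : IsPModular 2 M) {n g : G}
    (hn : n ∈ Subgroup.normalizer ((P : Subgroup G) : Set G))
    (hg : g ∈ Subgroup.normalizer ((P : Subgroup G) : Set G)) {f : G → ℂ}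
    (hf : Bi (Subgroup.centralizer ({x} : Set G)) f) (hfR : ∀ a, f a ∈ lRing hM) :
    MemLocalIdeal M (dop (Subgroup.centralizer ({x} : Set G)) n f g - f (n⁻¹ * g)) := by
  set C := Subgroup.centralizer ({x} : Set G)
  have hle : (P : Subgroup G) ≤ C := le_centralizer_of_comm h.comm h.mem
  have hsm : ∀ (u : (P : Subgroup G)) (ω : G ⧸ C), u • ω = (u : G) • ω := fun _ _ => rfl
  let F : G ⧸ C → ℂ := fun ω => if ω ∈ dcos C n then f (ω.out⁻¹ * g) else 0
  have hinv : ∀ (u : (P : Subgroup G)) (ω : G ⧸ C), F (u • ω) = F ω := by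
    intro u ω
    have hiff : u • ω ∈ dcos C n ↔ ω ∈ dcos C n := by
      refine ⟨fun hm => ?_, fun hm => mem_dcos_smul hm (hle u.2)⟩
      have := mem_dcos_smul hm (inv_mem (hle u.2))
      rwa [hsm, inv_smul_smul] at this
    simp only [F, hiff]
    split_ifs
    · obtain ⟨d, hd, he⟩ := out_smul C (u : G) ω
      rw [hsm, he,
        show ((u : G) * ω.out * d)⁻¹ * g = d⁻¹ * ((ω.out⁻¹ * g) * (g⁻¹ * (u : G)⁻¹ * g)) by group,
        (hf _ (inv_mem hd) _).1, (hf _ (hle ?_) _).2]
      have := (Subgroup.mem_normalizer_iff''.1 hg (u : G)⁻¹).1 (inv_mem u.2)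
      exact this
    · rfl
  have hFR : ∀ ω, F ω ∈ lRing hM := fun ω => by
    simp only [F]; split_ifs
    · exact hfR _
    · exact zero_mem _
  have h1 := congr_fixed hM P.isPGroup' F hFR hinv
  have hsum : ∑ ω, F ω = dop C n f g := by
    simp only [F, dop_apply, ← Finset.sum_filter]
    exact Finset.sum_congr (by ext ω; simp) fun _ _ => rfl
  have hfix : ∑ ω ∈ Finset.univ.filter (· ∈ MulAction.fixedPoints (P : Subgroup G) (G ⧸ C)), F ω =
      f (n⁻¹ * g) := by
    have hnmem : ((n : G) : G ⧸ C) ∈ dcos C n :=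
      Finset.mem_filter.2 ⟨Finset.mem_univ _, 1, by rw [OneMemClass.coe_one, one_mul]⟩
    have hnfix : ((n : G) : G ⧸ C) ∈ MulAction.fixedPoints (P : Subgroup G) (G ⧸ C) := by
      rintro ⟨u, hu⟩
      rw [hsm, MulAction.Quotient.smul_coe, smul_eq_mul, QuotientGroup.eq]
      have h2 := (Subgroup.mem_normalizer_iff''.1 hn u⁻¹).1 (inv_mem hu)
      rw [show (u * n)⁻¹ * n = n⁻¹ * u⁻¹ * n by group]
      exact hle h2
    rw [Finset.sum_eq_single ((n : G) : G ⧸ C)]
    · simp only [F, if_pos hnmem]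
      have hd : ((n : G) : G ⧸ C).out⁻¹ * n ∈ C :=
        QuotientGroup.eq.1 (QuotientGroup.out_eq' ((n : G) : G ⧸ C))
      rw [show ((n : G) : G ⧸ C).out⁻¹ * g =
        (((n : G) : G ⧸ C).out⁻¹ * n) * (n⁻¹ * g) by group, (hf _ hd _).1]
    · intro ω hω hne
      simp only [F]
      rw [if_neg]
      intro hm
      apply hne
      obtain ⟨c, rfl⟩ := (Finset.mem_filter.1 hm).2
      have hcfix : ∀ q ∈ (P : Subgroup G), ((c : G) * n)⁻¹ * q * ((c : G) * n) ∈ C := by
        intro q hq
        have h2 := (Finset.mem_filter.1 hω).2 ⟨q⁻¹, inv_mem hq⟩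
        rw [hsm, MulAction.Quotient.smul_coe, smul_eq_mul, QuotientGroup.eq] at h2
        convert h2 using 1
        group
      have hc := Subgroup.mem_centralizer_singleton_iff.1 c.2
      set y := n * x * n⁻¹ with hy
      have hyP : y ∈ (P : Subgroup G) := (Subgroup.mem_normalizer_iff.1 hn x).1 h.mem
      have hcy : (c : G) * y * (c : G)⁻¹ ∈ (P : Subgroup G) := by
        refine h.mem_of_commute (fun q hq => ?_) ?_
        · have h2 := Subgroup.mem_centralizer_singleton_iff.1 (hcfix q hq)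
          calc q * ((c : G) * y * (c : G)⁻¹)
              = (c : G) * n * ((((c : G) * n)⁻¹ * q * ((c : G) * n)) * x) * ((c : G) * n)⁻¹ := by
                rw [hy]; group
            _ = (c : G) * n * (x * (((c : G) * n)⁻¹ * q * ((c : G) * n))) * ((c : G) * n)⁻¹ := by
                rw [h2]
            _ = (c : G) * y * (c : G)⁻¹ * q := by rw [hy]; group
        · refine ⟨1, ?_⟩
          rw [hy, ← MulAut.conj_apply, MulEquiv.orderOf_eq, ← MulAut.conj_apply, MulEquiv.orderOf_eq,
            h.order, pow_one]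
      have he := h.conj_eq hc hyP hcy
      rw [QuotientGroup.eq, Subgroup.mem_centralizer_singleton_iff]
      calc ((c : G) * n)⁻¹ * n * x = ((c : G) * n)⁻¹ * y * n := by rw [hy]; group
        _ = ((c : G) * n)⁻¹ * ((c : G) * y * (c : G)⁻¹) * n := by rw [he]
        _ = x * (((c : G) * n)⁻¹ * n) := by rw [hy]; group
    · intro hn'
      exact absurd (Finset.mem_filter.2 ⟨Finset.mem_univ _, hnfix⟩) hn'
  rw [hsum, hfix] at h1
  exact h1

/-- The bound. -/
theorem Good.perm_bound (h : Good P x) (hM : IsPModular 2 M) {n : G}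
    (hn : n ∈ Subgroup.normalizer ((P : Subgroup G) : Set G)) {L : ℕ}
    (hdist : ∀ j, 0 < j → j < L → n ^ j * x * (n ^ j)⁻¹ ≠ x)
    (m : IrrCharacter G → ℕ)
    (hm : ∀ χ : IrrCharacter G, (m χ : ℂ) =
      (Nat.card (Subgroup.centralizer ({x} : Set G)) : ℂ)⁻¹ *
        ∑ c : ↥(Subgroup.centralizer ({x} : Set G)), (χ : G → ℂ) c) :
    L ≤ ∑ χ ∈ Finset.univ.filter (· ∈ principalBlock M G), m χ := by
  set C := Subgroup.centralizer ({x} : Set G) with hC
  set B := principalBlock M G
  set BF := Finset.univ.filter (· ∈ B) with hBF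
  have hB : IsPBlock M B := isPBlock_principalBlock M
  have hle : (P : Subgroup G) ≤ C := le_centralizer_of_comm h.comm h.mem
  by_contra hlt
  push Not at hlt
  set K := ∑ χ ∈ BF, m χ with hK
  set f0 : G → ℂ := fun g => ∑ c : C, blockCoeff B (g * c) with hf0
  have hfbi : Bi C f0 := by
    intro d hd g
    constructor
    · simp only [hf0]
      refine Fintype.sum_equiv (Equiv.mulRight (⟨d, hd⟩ : C)) _ _ fun c => ?_
      simp only [Equiv.coe_mulRight, Subgroup.coe_mul]
      rw [show d * g * (c : G) = d * (g * ((c : G) * d)) * d⁻¹ by group, blockCoeff_conj]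
    · simp only [hf0]
      refine Fintype.sum_equiv (Equiv.mulLeft (⟨d, hd⟩ : C)) _ _ fun c => ?_
      simp only [Equiv.coe_mulLeft, Subgroup.coe_mul]
      rw [mul_assoc]
  have hfR : ∀ g, f0 g ∈ lRing hM := fun g =>
    sum_mem fun c _ => memLocalRing_blockCoeff hM hB _
  -- values of the start function on the orbit
  have hzero : ∀ j, 0 < j → j < L → MemLocalIdeal M (f0 (n ^ j)) := by
    intro j hj0 hjL
    set g := n ^ j
    have hg : g ∈ Subgroup.normalizer ((P : Subgroup G) : Set G) := pow_mem hn j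
    let F : G → ℂ := fun a => if g⁻¹ * a ∈ C then blockCoeff B a else 0
    let _ : MulAction (P : Subgroup G) G :=
      MulAction.compHom G (MulAut.conj.comp (P : Subgroup G).subtype)
    have hinv : ∀ (u : (P : Subgroup G)) (a : G), F (u • a) = F a := by
      intro u a
      show F ((u : G) * a * (u : G)⁻¹) = F a
      have hgu : g⁻¹ * (u : G) * g ∈ C :=
        hle ((Subgroup.mem_normalizer_iff''.1 hg (u : G)).1 u.2)
      have e : g⁻¹ * ((u : G) * a * (u : G)⁻¹) = (g⁻¹ * (u : G) * g) * (g⁻¹ * a) * (u : G)⁻¹ := by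
        group
      have hiff : g⁻¹ * ((u : G) * a * (u : G)⁻¹) ∈ C ↔ g⁻¹ * a ∈ C := by
        rw [e, Subgroup.mul_mem_cancel_right _ (inv_mem (hle u.2)),
          Subgroup.mul_mem_cancel_left _ hgu]
      simp only [F, hiff]
      split_ifs
      · exact blockCoeff_conj B a (u : G)
      · rfl
    have hFR : ∀ a, F a ∈ lRing hM := fun a => by
      simp only [F]; split_ifs
      · exact memLocalRing_blockCoeff hM hB _
      · exact zero_mem _
    have h1 := congr_fixed hM P.isPGroup' F hFR hinv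
    rw [Finset.sum_eq_zero (s := Finset.univ.filter _) fun a ha => if_neg fun hga => ?_,
      sub_zero] at h1
    · have e : f0 g = ∑ a, F a := by
        simp only [hf0, F, ← Finset.sum_filter]
        refine Finset.sum_bij' (fun (c : C) _ => g * (c : G))
          (fun a ha => ⟨g⁻¹ * a, (Finset.mem_filter.1 ha).2⟩)
          (fun c _ => by simp) (fun _ _ => Finset.mem_univ _) (fun c _ => Subtype.ext (by group))
          (fun a _ => by group) (fun c _ => rfl)
      rw [e]; exact h1
    · have hfix := (Finset.mem_filter.1 ha).2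
      have hax : a * x * a⁻¹ = x := by
        have h2 : x * a * x⁻¹ = a := hfix ⟨x, h.mem⟩
        rw [mul_inv_eq_iff_eq_mul]
        exact (mul_inv_eq_iff_eq_mul.1 h2).symm
      refine hdist j hj0 hjL ?_
      have h2 := Subgroup.mem_centralizer_singleton_iff.1 hga
      calc g * x * g⁻¹ = g * (x * (g⁻¹ * a)) * a⁻¹ := by group
        _ = g * (g⁻¹ * a * x) * a⁻¹ := by rw [h2]
        _ = a * x * a⁻¹ := by group
        _ = x := hax
  have hone : MemLocalIdeal M (f0 1 - 1) := by
    have hQp : IsPGroup 2 (Subgroup.zpowers x) :=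
      IsPGroup.of_card (n := 1) (by rw [Nat.card_zpowers, h.order, pow_one])
    have hcz := (MajorNonvanish.cz_data hM h.order_pow hC).2.2
    haveI : Fintype (BrauerPairs.cz (Subgroup.zpowers x)) := Fintype.ofFinite _
    have h1 := BrauerPairs.sum_centralizer_blockCoeff_congr (G := G) hM hQp
    have e : f0 1 = ∑ c : BrauerPairs.cz (Subgroup.zpowers x), blockCoeff B (c : G) := by
      simp only [hf0, one_mul]
      exact Fintype.sum_equiv (Equiv.subtypeEquivRight fun a => by
        show a ∈ C ↔ a ∈ BrauerPairs.cz (Subgroup.zpowers x)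
        rw [← hcz]) _ _ fun c => rfl
    rwa [e]
  -- the iterates
  have hiter : ∀ i : ℕ, Bi C (((dop C n) ^ i) f0) ∧ (∀ g, ((dop C n) ^ i) f0 g ∈ lRing hM) ∧
      ∀ g ∈ Subgroup.normalizer ((P : Subgroup G) : Set G),
        MemLocalIdeal M (((dop C n) ^ i) f0 g - f0 ((n ^ i)⁻¹ * g)) := by
    intro i
    induction i with
    | zero =>
      refine ⟨by simpa using hfbi, by simpa using hfR, fun g _ => ?_⟩
      simpa using memLocalIdeal_zero hM
    | succ i ih =>
      obtain ⟨hb, hr, hs⟩ := ih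
      rw [pow_succ']
      refine ⟨dop_bi hb, fun g => sum_mem fun ω _ => hr _, fun g hg => ?_⟩
      have h1 := h.dop_congr hM hn hg hb hr
      have h2 := hs (n⁻¹ * g) (mul_mem (inv_mem hn) hg)
      have h3 := MemLocalIdeal.add hM h1 h2
      rw [sub_add_sub_cancel] at h3
      rw [Module.End.mul_apply, pow_succ', show (n * n ^ i)⁻¹ * g = (n ^ i)⁻¹ * (n⁻¹ * g) by group]
      exact h3
  -- the representations
  choose d ρ hρi hρ using fun χ : IrrCharacter G => χ.2
  set Iv := fun χ : IrrCharacter G => Representation.invariants ((ρ χ).comp C.subtype) with hIv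
  have hmIv : ∀ χ : IrrCharacter G, Module.finrank ℂ (Iv χ) = m χ := by
    intro χ
    haveI : Invertible (Nat.card C : ℂ) := invertibleOfNonzero (Nat.cast_ne_zero.2 Nat.card_pos.ne')
    have h1 := Representation.card_inv_mul_sum_char_eq_finrank ((ρ χ).comp C.subtype)
    have h2 : (m χ : ℂ) = (Module.finrank ℂ (Iv χ) : ℂ) := by
      rw [hm, ← h1, ← hρ χ]
      rfl
    exact_mod_cast h2.symm
  let D : ∀ χ : IrrCharacter G, Module.End ℂ (Fin (d χ) → ℂ) := fun χ =>
    ∑ ω ∈ dcos C n, ρ χ ω.out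
  have hDinv : ∀ χ : IrrCharacter G, ∀ v ∈ Iv χ, D χ v ∈ Iv χ := by
    intro χ v hv c
    show ρ χ (c : G) (D χ v) = D χ v
    simp only [D, LinearMap.sum_apply, map_sum]
    refine Finset.sum_bij' (fun ω _ => (c : G) • ω) (fun ω _ => (c : G)⁻¹ • ω)
      (fun ω hω => mem_dcos_smul hω c.2) (fun ω hω => mem_dcos_smul hω (inv_mem c.2))
      (fun ω _ => inv_smul_smul _ ω) (fun ω _ => smul_inv_smul _ ω) (fun ω _ => ?_)
    obtain ⟨e, he, hout⟩ := out_smul C (c : G) ω
    rw [hout, map_mul, map_mul, Module.End.mul_apply, Module.End.mul_apply,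
      show ρ χ e v = v from hv ⟨e, he⟩]
  let D0 : ∀ χ : IrrCharacter G, Module.End ℂ (Iv χ) := fun χ => (D χ).restrict (hDinv χ)
  have hrestrict : ∀ (χ : IrrCharacter G) (q : ℂ[X]) (v : Iv χ),
      ((aeval (D0 χ) q v : Iv χ) : Fin (d χ) → ℂ) = aeval (D χ) q (v : Fin (d χ) → ℂ) := by
    intro χ q
    induction q using Polynomial.induction_on' with
    | add a b ha hb => intro v; simp [ha v, hb v]
    | monomial k a =>
      induction k with
      | zero => intro v; simp
      | succ k ih =>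
        intro v
        rw [← monomial_mul_X, map_mul, map_mul, aeval_X, aeval_X, Module.End.mul_apply,
          Module.End.mul_apply, ih (D0 χ v)]
        rfl
  set q : ℂ[X] := ∏ χ ∈ BF, (D0 χ).charpoly with hq
  have hqmonic : q.Monic := monic_prod_of_monic _ _ fun χ _ => (D0 χ).charpoly_monic
  have hqdeg : q.natDegree = K := by
    rw [hq, natDegree_prod_of_monic _ _ fun χ _ => (D0 χ).charpoly_monic, hK]
    exact Finset.sum_congr rfl fun χ _ => by rw [LinearMap.charpoly_natDegree, hmIv]
  have hqint : ∀ i, IsIntegral ℤ (q.coeff i) := by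
    have hall : ∀ χ : IrrCharacter G, ∀ i, IsIntegral ℤ ((D0 χ).charpoly.coeff i) := by
      intro χ i
      let z : MonoidAlgebra ℤ G := ∑ ω ∈ dcos C n, MonoidAlgebra.single ω.out 1
      obtain ⟨r, hr, hr0⟩ := IsIntegral.of_finite ℤ z
      refine isIntegral_coeff_charpoly (D0 χ) r hr ?_ i
      have hD : aeval (D χ) r = 0 := by
        let Φ : MonoidAlgebra ℤ G →ₐ[ℤ] Module.End ℂ (Fin (d χ) → ℂ) :=
          MonoidAlgebra.lift ℤ _ G (ρ χ)
        have e : Φ z = D χ := by simp [Φ, z, D, MonoidAlgebra.lift_single]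
        rw [← e, aeval_algHom_apply, show aeval z r = 0 from hr0, map_zero]
      refine LinearMap.ext fun v => Subtype.ext ?_
      rw [hrestrict, ← algebraMap_int_eq, aeval_map_algebraMap, hD]
      simp
    rw [hq]
    refine Finset.prod_induction (fun χ => (D0 χ).charpoly) (fun q => ∀ i, IsIntegral ℤ (q.coeff i))
      (fun a b ha hb i => ?_) (fun i => ?_) (fun χ _ => hall χ)
    · rw [coeff_mul]; exact IsIntegral.sum _ fun e _ => (ha _).mul (hb _)
    · rw [coeff_one]; split_ifs
      · exact isIntegral_one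
      · exact isIntegral_zero
  -- the polynomial kills the start function
  let Φf : ∀ χ : IrrCharacter G, Module.End ℂ (Fin (d χ) → ℂ) →ₗ[ℂ] (G → ℂ) := fun χ =>
    LinearMap.pi fun g => (LinearMap.trace ℂ _).comp (LinearMap.mulRight ℂ (ρ χ g⁻¹))
  have hstep : ∀ (χ : IrrCharacter G) (A : Module.End ℂ (Fin (d χ) → ℂ)),
      dop C n (Φf χ A) = Φf χ (D χ * A) := by
    intro χ A
    funext g
    show ∑ ω ∈ dcos C n, LinearMap.trace ℂ _ (A * ρ χ (ω.out⁻¹ * g)⁻¹) =
      LinearMap.trace ℂ _ (D χ * A * ρ χ g⁻¹)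
    simp only [D, Finset.sum_mul, map_sum]
    refine Finset.sum_congr rfl fun ω _ => ?_
    rw [mul_inv_rev, inv_inv, map_mul (ρ χ), ← mul_assoc, LinearMap.trace_mul_comm, mul_assoc]
  have hpoly : ∀ (χ : IrrCharacter G) (r : ℂ[X]) (A : Module.End ℂ (Fin (d χ) → ℂ)),
      aeval (dop C n) r (Φf χ A) = Φf χ (aeval (D χ) r * A) := by
    intro χ r
    induction r using Polynomial.induction_on' with
    | add a b ha hb => intro A; simp [ha A, hb A, add_mul]
    | monomial k a =>
      induction k with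
      | zero =>
        intro A
        rw [monomial_zero_left, aeval_C, aeval_C, Module.algebraMap_end_apply, ← Algebra.smul_def,
          map_smul]
      | succ k ih =>
        intro A
        rw [← monomial_mul_X, map_mul (aeval (dop C n)), map_mul (aeval (D χ)), aeval_X, aeval_X,
          Module.End.mul_apply, hstep,
          ih, mul_assoc]
  have hf0sum : f0 = ∑ χ ∈ BF, ((Nat.card G : ℂ)⁻¹ * (χ : G → ℂ) 1) •
      Φf χ (∑ c : C, ρ χ (c : G)⁻¹) := by
    funext g
    simp only [hf0, Finset.sum_apply, Pi.smul_apply, smul_eq_mul, blockCoeff_eq_sum]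
    simp only [Finset.mul_sum]
    rw [Finset.sum_comm]
    refine Finset.sum_congr rfl fun χ _ => ?_
    show _ = _ * LinearMap.trace ℂ _ ((∑ c : C, ρ χ (c : G)⁻¹) * ρ χ g⁻¹)
    rw [Finset.sum_mul, map_sum, Finset.mul_sum]
    refine Finset.sum_congr rfl fun c _ => ?_
    rw [← map_mul, ← mul_inv_rev, mul_assoc]
    congr 2
    rw [← irr_apply_inv, ← hρ χ]
    rfl
  have hkill : aeval (dop C n) q f0 = 0 := by
    rw [hf0sum, map_sum]
    refine Finset.sum_eq_zero fun χ hχ => ?_
    rw [map_smul, hpoly]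
    have h0 : aeval (D χ) q * ∑ c : C, ρ χ (c : G)⁻¹ = 0 := by
      refine LinearMap.ext fun v => ?_
      have hv : (∑ c : C, ρ χ (c : G)⁻¹) v ∈ Iv χ := by
        intro e
        show ρ χ (e : G) ((∑ c : C, ρ χ (c : G)⁻¹) v) = (∑ c : C, ρ χ (c : G)⁻¹) v
        simp only [LinearMap.sum_apply, map_sum]
        refine Fintype.sum_equiv (Equiv.mulRight e⁻¹) _ _ fun c => ?_
        simp only [Equiv.coe_mulRight, Subgroup.coe_mul, InvMemClass.coe_inv, mul_inv_rev, inv_inv,
          map_mul, Module.End.mul_apply]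
      rw [Module.End.mul_apply, ← hrestrict χ q ⟨_, hv⟩]
      have hz : aeval (D0 χ) q = 0 := by
        obtain ⟨r, hr⟩ := Finset.dvd_prod_of_mem (fun χ => (D0 χ).charpoly) hχ
        rw [hq, hr, map_mul, LinearMap.aeval_self_charpoly, zero_mul]
      rw [hz]
      rfl
    rw [h0, map_zero, smul_zero]
  -- evaluate
  have hev := congrFun hkill (n ^ K)
  rw [aeval_eq_sum_range, hqdeg] at hev
  simp only [LinearMap.sum_apply, LinearMap.smul_apply, Finset.sum_apply, Pi.smul_apply, smul_eq_mul,
    Pi.zero_apply] at hev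
  have hcoef : ∀ i, q.coeff i ∈ lRing hM := fun i => isIntegral_mem_lRing hM (hqint i)
  have hterm : ∀ i ∈ Finset.range (K + 1), MemLocalIdeal M
      (q.coeff i * ((dop C n) ^ i) f0 (n ^ K) - if i = K then 1 else 0) := by
    intro i hi
    have hiK : i ≤ K := Nat.lt_succ_iff.1 (Finset.mem_range.1 hi)
    have h1 := MemLocalIdeal.mul_left hM (hcoef i) ((hiter i).2.2 _ (pow_mem hn K))
    have e : (n ^ i)⁻¹ * n ^ K = n ^ (K - i) := by
      rw [inv_mul_eq_iff_eq_mul, ← pow_add, Nat.add_sub_cancel' hiK]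
    rw [e, mul_sub] at h1
    split_ifs with hiK'
    · subst hiK'
      rw [Nat.sub_self, pow_zero] at h1
      have h2 : q.coeff K = 1 := hqdeg ▸ hqmonic.coeff_natDegree
      simp only [h2, one_mul] at h1 ⊢
      have h3 := MemLocalIdeal.add hM h1 hone
      rwa [sub_add_sub_cancel] at h3
    · rw [sub_zero]
      have h2 := MemLocalIdeal.mul_left hM (hcoef i)
        (hzero (K - i) (by omega) (by omega))
      have h3 := MemLocalIdeal.add hM h1 h2
      rwa [sub_add_cancel] at h3
  have htot := MemLocalIdeal.sum hM (Finset.range (K + 1)) hterm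
  rw [Finset.sum_sub_distrib, hev, zero_sub, Finset.sum_ite_eq' (Finset.range (K + 1)) K,
    if_pos (Finset.mem_range.2 (Nat.lt_succ_self K))] at htot
  have hfinal := MemLocalIdeal.neg hM htot
  rw [neg_neg] at hfinal
  exact not_memLocalIdeal_one hM hfinal

end CfsgLib.AbelTwo
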