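import Cfsg.Agent.Lib.AbelTwo.Stab
import Cfsg.Agent.Lib.Blocks12.StableBlock

/-!
# Splitting off the fixed points of the automiser by transfer
-/

set_option autoImplicit false
set_option linter.unusedSectionVars false
set_option linter.style.haveILetI false
set_option linter.unusedVariables false
set_option maxHeartbeats 800000

noncomputable section

namespace CfsgLib.AbelTwo

open Cfsg CfsgLib.Characters CfsgLib.Blocks
open scoped ComplexConjugate Classical commutatorElement

universe u

variable {G : Type u} [Group G] [Fintype G] [hp2 : Fact (Nat.Prime 2)] {M : Ideal AlgInt}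

/-- The block counts for an abelian Sylow subgroup and a rank one involution centraliser. -/
theorem block_count (hM : IsPModular 2 M) (P : Sylow 2 G)
    (hab : ∀ a ∈ (P : Subgroup G), ∀ b ∈ (P : Subgroup G), a * b = b * a)
    {x : G} (hx : x ∈ (P : Subgroup G)) (ho : orderOf x = 2)
    (hl : blockRank 2 (principalBlock M ↥(Subgroup.centralizer ({x} : Set G))) = 1) :
    (Nat.card (P : Subgroup G) = 8 → Nat.card (principalBlock M G) = 8) ∧
    (Nat.card (P : Subgroup G) = 16 →
      Nat.card (principalBlock M G) = 8 ∨ Nat.card (principalBlock M G) = 16) := by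
  have hgx : Good P x := ⟨hab, hx, ho, compl_of_rank_one hM hl⟩
  letI : CommGroup (P : Subgroup G) :=
    { (inferInstance : Group (P : Subgroup G)) with
      mul_comm := fun s t => Subtype.ext (hab s s.2 t t.2) }
  set f := (P : Subgroup G).normalizerMonoidHom with hf
  set E := f.range with hE
  haveI : Fintype E := Fintype.ofFinite E
  have hEodd : Odd (Nat.card E) := odd_automiser hab
  -- the norm map onto the fixed points
  let φ : (P : Subgroup G) →* (P : Subgroup G) :=
    { toFun := fun y => ∏ e : E, (e : MulAut (P : Subgroup G)) y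
      map_one' := by simp
      map_mul' := fun y z => by simp [Finset.prod_mul_distrib] }
  have hφ : ∀ y, φ y = ∏ e : E, (e : MulAut (P : Subgroup G)) y := fun y => rfl
  have hφinv : ∀ (d : MulAut (P : Subgroup G)), d ∈ E → ∀ y, φ (d y) = φ y := fun d hd y => by
    rw [hφ, hφ]
    exact Fintype.prod_equiv (Equiv.mulRight (⟨d, hd⟩ : E)) _ _ fun e => rfl
  have hφfix : ∀ (d : MulAut (P : Subgroup G)), d ∈ E → ∀ y, d (φ y) = φ y := fun d hd y => by
    rw [hφ, map_prod]
    exact Fintype.prod_equiv (Equiv.mulLeft (⟨d, hd⟩ : E)) _ _ fun e => rfl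
  have hφpow : ∀ y, (∀ d ∈ E, (d : MulAut (P : Subgroup G)) y = y) → φ y = y ^ Nat.card E :=
    fun y hy => by
      rw [hφ, Finset.prod_congr rfl fun (e : E) _ => hy (e : MulAut (P : Subgroup G)) e.2, Finset.prod_const, Finset.card_univ,
        Nat.card_eq_fintype_card]
  obtain ⟨k, hk⟩ := P.2.exists_card_eq
  have hcopow : ∀ {m : ℕ}, ¬ 2 ∣ m → Nat.Coprime (Nat.card (P : Subgroup G)) m := fun {m} hm => by
    rw [hk]
    exact ((Nat.prime_two.coprime_iff_not_dvd).2 hm).pow_left k
  have hcopE := hcopow (m := Nat.card E) (Nat.two_dvd_ne_zero.2 (Nat.odd_iff.1 hEodd))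
  have hcopI := hcopow P.not_dvd_index
  -- the transfer onto the fixed points
  have hfoc : (P : Subgroup G).focalSubgroupOf ≤ φ.ker := by
    intro y hy
    have h : (P : Subgroup G).focalSubgroup ≤ φ.ker.map (P : Subgroup G).subtype := by
      rw [Subgroup.focalSubgroup_def, Subgroup.closure_le]
      rintro z ⟨hz, w, hw, u, rfl⟩
      refine ⟨⟨⁅w, u⁆, hz⟩, ?_, rfl⟩
      have h1 : u * w⁻¹ * u⁻¹ ∈ (P : Subgroup G) := by
        have := mul_mem (inv_mem hw) hz
        simpa [commutatorElement_def, mul_assoc] using this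
      obtain ⟨n, hn, e⟩ := fusion P hab (inv_mem hw) h1
      have h2 : (⟨⁅w, u⁆, hz⟩ : (P : Subgroup G)) = ⟨w, hw⟩ * f ⟨n, hn⟩ ⟨w⁻¹, inv_mem hw⟩ := by
        refine Subtype.ext ?_
        show ⁅w, u⁆ = w * (n * w⁻¹ * n⁻¹)
        rw [e, commutatorElement_def]
        group
      show φ _ = 1
      rw [h2, map_mul, hφinv _ ⟨_, rfl⟩, ← map_mul,
        show (⟨w, hw⟩ : (P : Subgroup G)) * ⟨w⁻¹, inv_mem hw⟩ = 1 from
          Subtype.ext (mul_inv_cancel w), map_one]
    obtain ⟨y', hy', e⟩ := h hy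
    rwa [show y = y' from (Subtype.ext e).symm]
  set ψ : G →* (P : Subgroup G) :=
    (QuotientGroup.lift (P : Subgroup G).focalSubgroupOf φ hfoc).comp
      (P : Subgroup G).transferFocal with hψ
  have hψP : ∀ y : (P : Subgroup G), ψ y = φ y ^ (P : Subgroup G).index := fun y => by
    simp only [hψ, MonoidHom.comp_apply]
    rw [(P : Subgroup G).transferFocal_eq_pow y, map_pow]
    rfl
  set K := ψ.ker with hK
  have hrange : ψ.range = φ.range := by
    refine le_antisymm ?_ ?_
    · rintro _ ⟨g, rfl⟩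
      simp only [hψ, MonoidHom.comp_apply]
      generalize (P : Subgroup G).transferFocal g = t
      induction t using QuotientGroup.induction_on with
      | H z => exact ⟨z, rfl⟩
    · rintro _ ⟨y, rfl⟩
      obtain ⟨z, hz⟩ := (Nat.Coprime.pow_left_bijective hcopI).2 y
      refine ⟨z, ?_⟩
      rw [hψP, ← map_pow]
      exact congrArg φ hz
  have hKidx : K.index = Nat.card φ.range := by rw [hK, Subgroup.index_ker, hrange]
  have hmemK : ∀ y : (P : Subgroup G), (y : G) ∈ K ↔ φ y = 1 := fun y => by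
    rw [hK, MonoidHom.mem_ker, hψP, ← map_pow]
    constructor
    · intro h
      rw [map_pow] at h
      exact (Nat.Coprime.pow_left_bijective hcopI).1 (by simpa using h)
    · intro h; rw [map_pow, h, one_pow]
  haveI : K.Normal := MonoidHom.normal_ker ψ
  have hsplit : Nat.card φ.range * Nat.card φ.ker = Nat.card (P : Subgroup G) := by
    rw [← Subgroup.index_ker, mul_comm, Subgroup.card_mul_index]
  set Q₀ := (P : Subgroup G).subgroupOf K with hQ₀
  have hQcard : Nat.card Q₀ = Nat.card φ.ker :=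
    Nat.card_congr
      { toFun := fun z => ⟨⟨((z : K) : G), z.2⟩, MonoidHom.mem_ker.2 ((hmemK _).1 (z : K).2)⟩
        invFun := fun y => ⟨⟨((y : (P : Subgroup G)) : G), (hmemK _).2 (MonoidHom.mem_ker.1 y.2)⟩,
          (y : (P : Subgroup G)).2⟩
        left_inv := fun z => rfl
        right_inv := fun y => rfl }
  have hQidx : ¬ 2 ∣ Q₀.index := by
    have h1 := Q₀.card_mul_index
    have h2 := K.card_mul_index
    have h3 := (P : Subgroup G).card_mul_index
    rw [hKidx] at h2
    rw [hQcard] at h1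
    rw [← h2, ← h1, ← hsplit, mul_assoc (Nat.card φ.range), mul_comm (Nat.card φ.range)] at h3
    have h4 := Nat.eq_of_mul_eq_mul_right Nat.card_pos h3
    rw [← Nat.eq_of_mul_eq_mul_left Nat.card_pos h4]
    exact P.not_dvd_index
  let Q : Sylow 2 K := IsPGroup.toSylow
    (P.2.comap_of_injective K.subtype Subtype.val_injective : IsPGroup 2 Q₀) hQidx
  have hQmem : ∀ z : K, z ∈ (Q : Subgroup K) ↔ (z : G) ∈ (P : Subgroup G) := fun z => Iff.rfl
  have habQ : ∀ a ∈ (Q : Subgroup K), ∀ b ∈ (Q : Subgroup K), a * b = b * a := fun a ha b hb =>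
    Subtype.ext (hab _ ha _ hb)
  -- no fixed points inside
  have hfixQ : ∀ z ∈ (Q : Subgroup K),
      (∀ n ∈ Subgroup.normalizer ((Q : Subgroup K) : Set K), n * z = z * n) → z = 1 := by
    intro z hz hc
    set y : (P : Subgroup G) := ⟨(z : G), hz⟩
    have hy : ∀ d ∈ E, (d : MulAut (P : Subgroup G)) y = y := by
      rintro _ ⟨n, rfl⟩
      obtain ⟨v, hv⟩ : ψ (n : G) ∈ φ.range := hrange ▸ ⟨_, rfl⟩
      obtain ⟨v', hv'⟩ := (Nat.Coprime.pow_left_bijective hcopI).2 v
      have hnK : (n : G) * ((v' : G))⁻¹ ∈ K := by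
        rw [hK, MonoidHom.mem_ker, map_mul, map_inv, hψP, ← map_pow,
          show φ (v' ^ (P : Subgroup G).index) = ψ (n : G) by rw [← hv]; exact congrArg φ hv',
          mul_inv_cancel]
      have hnN : (n : G) * ((v' : G))⁻¹ ∈ Subgroup.normalizer ((P : Subgroup G) : Set G) :=
        mul_mem n.2 (inv_mem (Subgroup.le_normalizer v'.2))
      have hn' : (⟨_, hnK⟩ : K) ∈ Subgroup.normalizer ((Q : Subgroup K) : Set K) :=
        Subgroup.mem_normalizer_iff.2 fun w => by
          rw [hQmem, hQmem]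
          exact Subgroup.mem_normalizer_iff.1 hnN (w : G)
      have h1 : (n : G) * ((v' : G))⁻¹ * z = z * ((n : G) * ((v' : G))⁻¹) :=
        congrArg Subtype.val (hc _ hn')
      refine Subtype.ext ?_
      show (n : G) * z * (n : G)⁻¹ = z
      calc (n : G) * z * (n : G)⁻¹
          = (n : G) * ((v' : G))⁻¹ * ((v' : G) * z * (v' : G)⁻¹) * ((n : G) * ((v' : G))⁻¹)⁻¹ := by
            group
        _ = (n : G) * ((v' : G))⁻¹ * z * ((n : G) * ((v' : G))⁻¹)⁻¹ := by
            rw [hab _ v'.2 _ (show (z : G) ∈ (P : Subgroup G) from hz), mul_inv_cancel_right]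
        _ = z := by rw [h1, mul_inv_cancel_right]
    have h1 : y ^ Nat.card E = 1 := by
      rw [← hφpow y hy]; exact (hmemK y).1 z.2
    have h2 : y = 1 := (Nat.Coprime.pow_left_bijective hcopE).1 (by simpa using h1)
    have h3 : ((y : (P : Subgroup G)) : G) = 1 := by rw [h2]; rfl
    exact Subtype.ext h3
  have hgoodQ : Nat.card (Q : Subgroup K) ≠ 1 → ∃ a, Good Q a := by
    intro hQ1
    set x' : (P : Subgroup G) := ⟨x, hx⟩
    have hxx : x' * x' = 1 := Subtype.ext (by
      show x * x = 1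
      rw [← pow_two, ← ho, pow_orderOf_eq_one])
    set c := φ x' with hc
    have hcc : c * c = 1 := by rw [hc, ← map_mul, hxx, map_one]
    have hφc : φ c = c := by
      rw [hφpow c fun d hd => hφfix d hd x']
      obtain ⟨j, hj⟩ := hEodd
      rw [hj, pow_succ, pow_mul, pow_two, hcc, one_pow, one_mul]
    set a := c * x' with ha
    have hφa : φ a = 1 := by rw [ha, map_mul, hφc, ← hc, hcc]
    have ha1 : a ≠ 1 := by
      intro h
      refine hQ1 ?_
      have hx'c : x' = c := by
        calc x' = c * c * x' := by rw [hcc, one_mul]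
          _ = c := by rw [mul_assoc, ← ha, h, mul_one]
      have htriv : ∀ d ∈ E, (d : MulAut (P : Subgroup G)) = 1 := by
        rintro _ ⟨n, rfl⟩
        have h1 : f n x' = x' := by rw [hx'c]; exact hφfix _ ⟨n, rfl⟩ x'
        exact (aut_eq_one_iff n).2
          (hgx.stab n.2 (mul_inv_eq_iff_eq_mul.1 (congrArg Subtype.val h1)))
      show Nat.card Q₀ = 1
      rw [hQcard, Subgroup.card_eq_one, Subgroup.eq_bot_iff_forall]
      intro y hy
      rw [MonoidHom.mem_ker, hφpow y fun d hd => by rw [htriv d hd, MulAut.one_apply]] at hy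
      exact (Nat.Coprime.pow_left_bijective hcopE).1 (by simpa using hy)
    have haG : (a : G) ≠ 1 := fun h => ha1 (Subtype.ext h)
    have haa : (a : G) * a = 1 := congrArg Subtype.val (show a * a = 1 by
      rw [ha, mul_mul_mul_comm, hcc, hxx, one_mul])
    have hao : orderOf (a : G) = 2 := orderOf_eq_prime (by rw [pow_two]; exact haa) haG
    have hga : Good P (a : G) := good_of_stab hab a.2 hao fun n hn hcomm => by
      refine hgx.stab hn (mul_inv_eq_iff_eq_mul.1 ?_)
      have h1 : f ⟨n, hn⟩ a = a := Subtype.ext (mul_inv_eq_iff_eq_mul.2 hcomm)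
      rw [ha, map_mul, hφfix _ ⟨_, rfl⟩ x'] at h1
      exact congrArg Subtype.val (mul_left_cancel h1)
    refine ⟨⟨(a : G), (hmemK a).2 hφa⟩, good_of_stab habQ a.2 (by rw [← Subgroup.orderOf_coe]; exact hao)
      fun n hn hcomm q hq => Subtype.ext ?_⟩
    exact mul_inv_eq_iff_eq_mul.1
      (hga.conj_eq (congrArg Subtype.val hcomm) hq ((Subgroup.mem_normalizer_iff.1 hn q).1 hq))
  haveI : Fintype K := Fintype.ofFinite K
  obtain ⟨h1, h2, h4, h8, h16⟩ := stab_count (G := K) hM Q habQ hfixQ hgoodQ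
  -- the defect group
  obtain ⟨D, hD⟩ := CfsgLib.Blocks.exists_isDefectGroup hM (isPBlock_principalBlock (G := G) M)
  have hDp : IsPGroup 2 D := IsPGroup.of_card (n := blockDefect 2 (principalBlock M G))
    (CfsgLib.BlockCover.natCard_defect hM (isPBlock_principalBlock M) hD)
  obtain ⟨S, hS⟩ := hDp.exists_le_sylow
  obtain ⟨d, hd⟩ := MulAction.exists_smul_eq G S P
  have hDab : ∀ u ∈ D, ∀ v ∈ D, u * v = v * u := by
    intro u hu v hv
    have hm : ∀ w ∈ D, d * w * d⁻¹ ∈ (P : Subgroup G) := fun w hw => by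
      rw [← hd, Sylow.coe_subgroup_smul]
      exact Subgroup.smul_mem_pointwise_smul _ (MulAut.conj d) _ (hS hw)
    have h := hab _ (hm u hu) _ (hm v hv)
    exact mul_left_cancel (a := d) (mul_right_cancel (b := d⁻¹) (by
      calc d * (u * v) * d⁻¹ = d * u * d⁻¹ * (d * v * d⁻¹) := by group
        _ = d * v * d⁻¹ * (d * u * d⁻¹) := h
        _ = d * (v * u) * d⁻¹ := by group))
  obtain ⟨j, hj⟩ : ∃ j : ℕ, K.index = 2 ^ j := by
    rw [hKidx]
    exact (P.2.to_subgroup φ.range).exists_card_eq
  have hst := CfsgLib.StableBlock.stable_block K hM ⟨j, hj⟩ (isPBlock_principalBlock M)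
    (fun g => CfsgLib.BrauerPairs.stabilizesBlock_principal hM
      (by rw [Subgroup.normalizer_eq_top]; exact Subgroup.mem_top g))
    (isPBlock_principalBlock M)
    ⟨principalIrr G, principalIrr_mem' hM, principalIrr K, principalIrr_mem' hM, by
      rw [show (fun n : K => (principalIrr G : G → ℂ) n) = (principalIrr K : K → ℂ) from rfl,
        classInner_irr_self (principalIrr K).2]
      exact one_ne_zero⟩ hD hDab
  have hkG := hst.2.2.2.2.1
  rw [hKidx] at hkG
  have hQ' : Nat.card (Q : Subgroup K) = Nat.card φ.ker := hQcard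
  rw [hQ'] at h1 h2 h4 h8 h16
  refine ⟨fun hP8 => ?_, fun hP16 => ?_⟩
  · rw [hP8] at hsplit
    obtain ⟨i, hi, hker⟩ := (Nat.dvd_prime_pow Nat.prime_two).1
      (⟨_, by rw [mul_comm] at hsplit; exact hsplit.symm⟩ : Nat.card φ.ker ∣ 2 ^ 3)
    rw [hker] at hsplit h1 h2 h4 h8
    rw [hkG]
    interval_cases i
    · rw [h1 rfl]; omega
    · exact absurd rfl h2
    · rw [h4 rfl]; omega
    · rw [h8 rfl]; omega
  · rw [hP16] at hsplit
    obtain ⟨i, hi, hker⟩ := (Nat.dvd_prime_pow Nat.prime_two).1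
      (⟨_, by rw [mul_comm] at hsplit; exact hsplit.symm⟩ : Nat.card φ.ker ∣ 2 ^ 4)
    rw [hker] at hsplit h1 h2 h4 h8 h16
    rw [hkG]
    interval_cases i
    · rw [h1 rfl]; omega
    · exact absurd rfl h2
    · rw [h4 rfl]; omega
    · rw [h8 rfl]; omega
    · rcases h16 rfl with h | h <;> rw [h] <;> omega

end CfsgLib.AbelTwo
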