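import Cfsg.Agent.Lib.Elem16.GenChar
import Cfsg.Agent.Lib.Elem16.Main
import Cfsg.Agent.Lib.Indicator.Count
import Cfsg.Agent.Lib.Characters.Decomp

/-!
# Sections of involutions with a normal 2-complement in the centraliser

The columns of the principal block at such involutions and the Frobenius--Schur identity
`ν(χ) + ∑ v_j(χ) = δ(χ) + ∑ m_j(χ)` for a group whose 2-elements are involutions.
-/

set_option autoImplicit false
set_option linter.unusedSectionVars false
set_option linter.style.haveILetI false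
set_option linter.unusedVariables false
set_option maxHeartbeats 1000000

noncomputable section

namespace CfsgLib.AbelTwo

open Cfsg CfsgLib.Characters CfsgLib.Blocks CfsgLib.Blk7 CfsgLib.FrobSchur
open scoped ComplexConjugate Classical

universe u

variable {G : Type u} [Group G] [Fintype G] [hp2 : Fact (Nat.Prime 2)] {M : Ideal AlgInt}

/-- An involution of an abelian Sylow subgroup whose centraliser has a normal 2-complement. -/
structure Good (P : Sylow 2 G) (x : G) : Prop where
  comm : ∀ a ∈ (P : Subgroup G), ∀ b ∈ (P : Subgroup G), a * b = b * a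
  mem : x ∈ (P : Subgroup G)
  order : orderOf x = 2
  compl : Cfsg.HasNormalPComplement 2 ↥(Subgroup.centralizer ({x} : Set G))

variable {P : Sylow 2 G} {x : G}

theorem le_centralizer_of_comm (hab : ∀ a ∈ (P : Subgroup G), ∀ b ∈ (P : Subgroup G), a * b = b * a)
    (hx : x ∈ (P : Subgroup G)) : (P : Subgroup G) ≤ Subgroup.centralizer ({x} : Set G) :=
  fun z hz => Subgroup.mem_centralizer_singleton_iff.2 (hab z hz x hx)

theorem factorization_centralizer
    (hab : ∀ a ∈ (P : Subgroup G), ∀ b ∈ (P : Subgroup G), a * b = b * a) (hx : x ∈ (P : Subgroup G)) :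
    (Nat.card ↥(Subgroup.centralizer ({x} : Set G))).factorization 2 =
      (Nat.card G).factorization 2 := by
  have hle := le_centralizer_of_comm hab hx
  have h1 := Sylow.card_eq_multiplicity (P.subtype hle)
  have h2 := P.card_eq_multiplicity
  have h0 : Nat.card ↥((P : Subgroup G).subgroupOf (Subgroup.centralizer ({x} : Set G))) =
      Nat.card ↥(P : Subgroup G) := Nat.card_congr (Subgroup.subgroupOfEquivOfLe hle).toEquiv
  exact Nat.pow_right_injective le_rfl (h1.symm.trans (h0.trans h2))

theorem Good.order_pow (h : Good P x) : ∃ k : ℕ, orderOf x = 2 ^ k :=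
  ⟨1, by rw [h.order, pow_one]⟩

theorem Good.apply_ne_zero (h : Good P x) (hM : IsPModular 2 M) {χ : IrrCharacter G}
    (hχ : χ ∈ principalBlock M G) : (χ : G → ℂ) x ≠ 0 := by
  set C := Subgroup.centralizer ({x} : Set G) with hC
  have h1 : ¬ 2 ∣ orderOf (1 : C) := by simp
  have hind : IsInducedBlock M C (principalBlock M C) (principalBlock M G) :=
    (isInducedBlock_principal_iff hM C
      (inducedBlockDefined_centralizer hM h.order_pow (isPBlock_principalBlock M))).2 rfl
  have h2 := MajorNonvanish.blockPart_one_ne_zero hM h.order_pow hC hind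
    (by rw [OneSection.blockDefect_principal hM, OneSection.blockDefect_principal hM,
      factorization_centralizer h.comm h.mem]) hχ
  rw [show (fun c : C => (χ : G → ℂ) (x * c)) = sectionFun x (χ : G → ℂ) from rfl,
    blockPart_principal_section hM h.order_pow h1, if_pos hχ] at h2
  simpa using h2

/-- The integral value at an involution. -/
def val (x : G) (χ : IrrCharacter G) : ℤ := Classical.epsilon fun z : ℤ => (χ : G → ℂ) x = z

theorem Good.val_spec (h : Good P x) (χ : IrrCharacter G) : (χ : G → ℂ) x = (val x χ : ℂ) :=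
  Classical.epsilon_spec (Blk7.exists_int_value h.order χ)

theorem Good.val_ne_zero (h : Good P x) (hM : IsPModular 2 M) {χ : IrrCharacter G}
    (hχ : χ ∈ principalBlock M G) : val x χ ≠ 0 := fun h0 =>
  h.apply_ne_zero hM hχ (by rw [h.val_spec, h0, Int.cast_zero])

theorem Good.val_principal (h : Good P x) : val x (principalIrr G) = 1 := by
  have h1 := h.val_spec (principalIrr G)
  change (1 : ℂ) = _ at h1
  exact_mod_cast h1.symm

/-- Members of the principal block are constant on the section. -/
theorem Good.apply_section (h : Good P x) (hM : IsPModular 2 M) {g u : G} (hu : IsPPart 2 g u)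
    (hux : IsConj u x) {χ : IrrCharacter G} (hχ : χ ∈ principalBlock M G) :
    (χ : G → ℂ) g = (val x χ : ℂ) := by
  set C := Subgroup.centralizer ({x} : Set G) with hC
  obtain ⟨w, hw, hc, -, hwp⟩ := hu
  obtain ⟨d, hd⟩ := isConj_iff.1 hux
  have hdw : d * w * d⁻¹ ∈ C := by
    rw [hC, Subgroup.mem_centralizer_singleton_iff, ← hd]
    exact (hc.map (MulAut.conj d).toMonoidHom).symm
  haveI : (pPrimeCore 2 C).Normal := pPrimeCore_normal 2 C
  have hreg : ¬ 2 ∣ orderOf (⟨_, hdw⟩ : C) := by
    rw [← Subgroup.orderOf_coe]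
    show ¬ 2 ∣ orderOf (MulAut.conj d w)
    rwa [MulEquiv.orderOf_eq]
  have hcore : (⟨_, hdw⟩ : C) ∈ pPrimeCore 2 C :=
    (CfsgLib.PCore.le_pPrimeCore_of_not_dvd CfsgLib.Transfer.pResidual_normal
      (CfsgLib.Transfer.hasNormalPComplement_iff.1 h.compl))
      (CfsgLib.Transfer.mem_pResidual (Nat.Coprime.symm (Nat.prime_two.coprime_iff_not_dvd.2 hreg)))
  rw [← h.val_spec, ← principal_apply_mul hM h.order_pow CfsgLib.PCore.not_dvd_card_pPrimeCore
    hcore hχ]
  exact classFunction_eq_of_isConj (irr_isClassFunction χ) (isConj_iff.2 ⟨d, by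
    rw [← hw]
    show d * (u * w) * d⁻¹ = x * (d * w * d⁻¹)
    conv_rhs => rw [← hd]
    group⟩)

/-- The squares of the column sum to the order of the Sylow subgroup. -/
theorem Good.sum_sq (h : Good P x) (hM : IsPModular 2 M) :
    ∑ χ ∈ Finset.univ.filter (· ∈ principalBlock M G), val x χ ^ 2 =
      (Nat.card (P : Subgroup G) : ℤ) := by
  set C := Subgroup.centralizer ({x} : Set G) with hC
  have h1 : ¬ 2 ∣ orderOf (1 : C) := by simp
  have h2 := principal_section_norm (y := (1 : C)) hM h.order_pow h1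
  rw [principal_norm_of_complement hM (Elem16.core_index_of_complement h.compl) h1,
    factorization_centralizer h.comm h.mem, ← P.card_eq_multiplicity] at h2
  simp only [Subgroup.coe_one, mul_one, h.val_spec, Complex.norm_intCast, sq_abs] at h2
  exact_mod_cast h2

/-- The indicator of the section. -/
def secInd (x : G) (g : G) : ℂ := if ∃ u, IsPPart 2 g u ∧ IsConj u x then 1 else 0

theorem secInd_eq {g u : G} (hu : IsPPart 2 g u) :
    secInd x g = if IsConj u x then 1 else 0 := by
  have : (∃ v, IsPPart 2 g v ∧ IsConj v x) ↔ IsConj u x :=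
    ⟨fun ⟨v, hv, hvx⟩ => IsPPart.unique Nat.prime_two hv hu ▸ hvx, fun h => ⟨u, hu, h⟩⟩
  simp only [secInd, this]

theorem secInd_secConst (x : G) : Elem16.SecConst 2 (secInd x) := by
  refine ⟨fun g c => ?_, fun g u hu => ?_⟩
  · obtain ⟨u, hu⟩ := exists_isPPart Nat.prime_two g
    have hcu : IsConj (c * u * c⁻¹) x ↔ IsConj u x :=
      ⟨fun h => (isConj_iff.2 ⟨c, rfl⟩ : IsConj u _).trans h,
        fun h => (isConj_iff.2 ⟨c, rfl⟩ : IsConj u _).symm.trans h⟩
    simp only [secInd_eq hu, secInd_eq (IsPPart.conj hu c), hcu]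
  · obtain ⟨w, -, -, hord, -⟩ := id hu
    have hu' : IsPPart 2 u u := by
      have h := isPPart_mul (x := u) (y := (1 : G)) (Commute.one_right u) hord
        (by simp : ¬ 2 ∣ orderOf (1 : G))
      rwa [mul_one] at h
    rw [secInd_eq hu, secInd_eq hu']

theorem secInd_self (h : Good P x) : secInd x x = 1 := by
  have hu : IsPPart 2 x x := by
    have h1 := isPPart_mul (x := x) (y := (1 : G)) (Commute.one_right x) h.order_pow
      (by simp : ¬ 2 ∣ orderOf (1 : G))
    rwa [mul_one] at h1
  rw [secInd_eq hu, if_pos (IsConj.refl x)]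

theorem principalIrr_mem' (hM : IsPModular 2 M) : principalIrr G ∈ principalBlock M G := by
  rw [principalBlock_eq]; exact mem_blockOf_self hM _

/-- The matrix of the section indicator. -/
theorem Good.Mw_secInd (h : Good P x) (hM : IsPModular 2 M) {χ ψ : IrrCharacter G}
    (hχ : χ ∈ principalBlock M G) (hψ : ψ ∈ principalBlock M G) :
    (Nat.card (P : Subgroup G) : ℂ) * Elem16.Mw (secInd x) χ ψ = (val x χ : ℂ) * val x ψ := by
  set S := secInd x
  set c : ℂ := (Nat.card G : ℂ)⁻¹ * ∑ g, S g with hc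
  have hB := isPBlock_principalBlock (G := G) M
  have hM0 : ∀ χ ∈ principalBlock M G, ∀ ψ ∈ principalBlock M G,
      Elem16.Mw S χ ψ = c * ((val x χ : ℂ) * val x ψ) := by
    intro χ hχ ψ hψ
    rw [Elem16.Mw_eq, hc, mul_assoc, Finset.sum_mul]
    refine congrArg _ (Finset.sum_congr rfl fun g _ => ?_)
    simp only [S, secInd]
    split_ifs with hg
    · obtain ⟨u, hu, hux⟩ := hg
      rw [h.apply_section hM hu hux hχ, h.apply_section hM hu hux hψ, map_intCast]
      ring
    · simp
  have hidem : S * S = S := funext fun g => by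
    simp only [S, secInd, Pi.mul_apply]; split_ifs <;> simp
  have htriv := principalIrr_mem' (G := G) hM
  have h1 := Elem16.Mw_mul hM (secInd_secConst x) S hB htriv (principalIrr G)
  have h16 : ∑ φ ∈ Finset.univ.filter (· ∈ principalBlock M G), ((val x φ : ℂ)) ^ 2 =
      (Nat.card (P : Subgroup G) : ℂ) := by exact_mod_cast h.sum_sq hM
  rw [hidem, hM0 _ htriv _ htriv,
    Finset.sum_congr rfl fun φ hφ => show
      Elem16.Mw S (principalIrr G) φ * Elem16.Mw S φ (principalIrr G) =
        c ^ 2 * (val x φ : ℂ) ^ 2 by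
          rw [hM0 _ htriv _ (Finset.mem_filter.1 hφ).2, hM0 _ (Finset.mem_filter.1 hφ).2 _ htriv,
            h.val_principal]
          push_cast
          ring,
    ← Finset.mul_sum, h16, h.val_principal] at h1
  have hc0 : c ≠ 0 := by
    have e : ∑ g, S g =
        ((Finset.univ.filter fun g : G => ∃ u, IsPPart 2 g u ∧ IsConj u x).card : ℂ) := by
      simp only [S, secInd, Finset.sum_boole]
    have hne : (Finset.univ.filter fun g : G => ∃ u, IsPPart 2 g u ∧ IsConj u x).card ≠ 0 := by
      refine Finset.card_ne_zero_of_mem (a := x) (Finset.mem_filter.2 ⟨Finset.mem_univ _, ?_⟩)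
      by_contra hn
      have h2 := secInd_self h
      rw [secInd, if_neg hn] at h2
      exact zero_ne_one h2
    rw [hc, e]
    exact mul_ne_zero (inv_ne_zero (Nat.cast_ne_zero.2 Nat.card_pos.ne')) (Nat.cast_ne_zero.2 hne)
  have hcP : (Nat.card (P : Subgroup G) : ℂ) * c = 1 := by
    refine mul_left_cancel₀ hc0 ?_
    push_cast at h1
    linear_combination -h1
  rw [hM0 χ hχ ψ hψ, ← mul_assoc, hcP, one_mul]

/-- Different sections give orthogonal columns. -/
theorem Good.orth (h : Good P x) {y : G} (h' : Good P y) (hM : IsPModular 2 M)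
    (hxy : ¬ IsConj x y) :
    ∑ χ ∈ Finset.univ.filter (· ∈ principalBlock M G), val x χ * val y χ = 0 := by
  have hp : ∀ {z : G}, Good P z → IsPPart 2 z z := fun {z} hz => by
    have h1 := isPPart_mul (x := z) (y := (1 : G)) (Commute.one_right z) hz.order_pow
      (by simp : ¬ 2 ∣ orderOf (1 : G))
    rwa [mul_one] at h1
  have h1 := sum_block_eq_zero_of_not_isConj hM (isPBlock_principalBlock M) (hp h) (hp h') hxy
  have hinv : y⁻¹ = y := by
    rw [inv_eq_iff_mul_eq_one, ← pow_two, ← h'.order, pow_orderOf_eq_one]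
  simp only [hinv, h.val_spec, h'.val_spec] at h1
  exact_mod_cast h1

/-- The column is orthogonal to the degrees. -/
theorem Good.degree_orth (h : Good P x) (hM : IsPModular 2 M) :
    ∑ χ ∈ Finset.univ.filter (· ∈ principalBlock M G),
      (charDegree (χ : G → ℂ) : ℤ) * val x χ = 0 := by
  have hp1 : IsPPart 2 (1 : G) 1 := by
    have h1 := isPPart_mul (x := (1 : G)) (y := (1 : G)) (Commute.one_right _) ⟨0, by simp⟩
      (by simp : ¬ 2 ∣ orderOf (1 : G))
    rwa [mul_one] at h1
  have hpx : IsPPart 2 x x := by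
    have h1 := isPPart_mul (x := x) (y := (1 : G)) (Commute.one_right x) h.order_pow
      (by simp : ¬ 2 ∣ orderOf (1 : G))
    rwa [mul_one] at h1
  have h1 := sum_block_eq_zero_of_not_isConj hM (isPBlock_principalBlock M) hp1 hpx
    fun hc => by
      have := h.order
      rw [isConj_one_right.1 hc, orderOf_one] at this
      omega
  have hinv : x⁻¹ = x := by rw [inv_eq_iff_mul_eq_one, ← pow_two, ← h.order, pow_orderOf_eq_one]
  simp only [hinv, h.val_spec, (CfsgLib.ClassCount.degree_eq (G := G) _).1] at h1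
  exact_mod_cast h1

section Indicator

variable (hsq : ∀ u : G, (∃ k : ℕ, orderOf u = 2 ^ k) → u * u = 1)
include hsq

theorem pairs_fiber (f : G → ℂ) (hf : IsClassFunction G f) {u : G} (hu : u * u = 1) (c : ℂ)
    (hc : ∀ g, IsPPart 2 g u → f g = c ∨ u = 1) :
    ∑ q ∈ (Finset.univ : Finset (G × G)).filter
        (fun q => (q.2 * q.2 = 1 ∧ q.2 * q.1 = q.1 * q.2) ∧ IsPPart 2 q.1 u), f q.1 =
      if u = 1 then ∑ g : G, f (g * g)
      else (Nat.card (Subgroup.centralizer ({u} : Set G)) : ℂ) * c := by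
  choose t ht using fun g : G => exists_isPPart (G := G) Nat.prime_two g
  have htt : ∀ g, t g * t g = 1 := fun g => by
    obtain ⟨w, -, -, hord, -⟩ := ht g
    exact hsq _ hord
  have hord2 : ∀ {a : G}, a * a = 1 → ∃ k : ℕ, orderOf a = 2 ^ k := fun {a} ha => by
    obtain ⟨i, -, hi⟩ := (Nat.dvd_prime_pow Nat.prime_two).1
      (orderOf_dvd_of_pow_eq_one (show a ^ 2 ^ 1 = 1 by rw [pow_one, pow_two]; exact ha))
    exact ⟨i, hi⟩
  set R := fun h : G => ((u * (h * h), t h) : G × G)
  have key : ∀ h : G, h * u = u * h → ∃ w : G, h = t h * w ∧ t h * w = w * t h ∧ ¬ 2 ∣ orderOf w ∧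
      h * h = w * w ∧ t h * u = u * t h ∧ IsPPart 2 (u * (h * h)) u ∧
      t h * (h * h) = h * h * t h := by
    intro h hh
    obtain ⟨w, hw, hcw, -, hwp⟩ := ht h
    have hsqh : h * h = w * w := by
      calc h * h = t h * w * (t h * w) := by rw [hw]
        _ = t h * (w * t h) * w := by group
        _ = t h * (t h * w) * w := by rw [hcw.eq]
        _ = w * w := by rw [← mul_assoc, htt, one_mul]
    have htu : t h * u = u * t h := by
      have e : u * h * u⁻¹ = h := by rw [← hh, mul_inv_cancel_right]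
      have h1 := IsPPart.conj (ht h) u
      rw [e] at h1
      exact (mul_inv_eq_iff_eq_mul.1 (IsPPart.unique Nat.prime_two h1 (ht h))).symm
    have hwu : w * u = u * w := by
      have e : w = t h * h :=
        calc w = t h * (t h * w) := by rw [← mul_assoc, htt, one_mul]
          _ = t h * h := by rw [hw]
      rw [e, mul_assoc, hh, ← mul_assoc, htu, mul_assoc]
    refine ⟨w, hw.symm, hcw.eq, hwp, hsqh, htu, ?_, ?_⟩
    · rw [hsqh, ← pow_two]
      refine isPPart_mul (Commute.pow_right (show Commute u w from hwu.symm) 2) (hord2 hu) ?_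
      intro h2
      exact hwp (h2.trans (orderOf_pow_dvd 2))
    · rw [hsqh]
      exact (hcw.mul_right hcw).eq
  have hbij : ∑ h ∈ (Finset.univ : Finset G).filter (fun h => h * u = u * h), f (u * (h * h)) =
      ∑ q ∈ (Finset.univ : Finset (G × G)).filter
        (fun q => (q.2 * q.2 = 1 ∧ q.2 * q.1 = q.1 * q.2) ∧ IsPPart 2 q.1 u), f q.1 := by
    refine Finset.sum_bij (fun h _ => R h) (fun h hh => ?_) (fun h hh h' hh' he => ?_)
      (fun q hq => ?_) (fun h hh => rfl)
    · obtain ⟨w, -, -, -, -, htu, hpp, hth⟩ := key h (Finset.mem_filter.1 hh).2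
      refine Finset.mem_filter.2 ⟨Finset.mem_univ _, ⟨htt h, ?_⟩, hpp⟩
      show t h * (u * (h * h)) = u * (h * h) * t h
      rw [← mul_assoc, htu, mul_assoc, hth, mul_assoc, mul_assoc, mul_assoc]
    · obtain ⟨w, hw, -, hwp, hs, -⟩ := key h (Finset.mem_filter.1 hh).2
      obtain ⟨w', hw', -, hwp', hs', -⟩ := key h' (Finset.mem_filter.1 hh').2
      have e1 : h * h = h' * h' := mul_left_cancel (congrArg Prod.fst he)
      have e2 : t h = t h' := congrArg Prod.snd he
      rw [hs, hs', ← pow_two, ← pow_two] at e1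
      obtain ⟨m, hm⟩ := exists_pow_eq_self_of_coprime
        (Nat.Prime.coprime_iff_not_dvd Nat.prime_two |>.2 hwp)
      obtain ⟨m', hm'⟩ := exists_pow_eq_self_of_coprime
        (Nat.Prime.coprime_iff_not_dvd Nat.prime_two |>.2 hwp')
      have e3 : w = w' := by
        have ho : orderOf w = orderOf w' := by
          rw [← (Nat.Prime.coprime_iff_not_dvd Nat.prime_two |>.2 hwp).symm.orderOf_pow,
            ← (Nat.Prime.coprime_iff_not_dvd Nat.prime_two |>.2 hwp').symm.orderOf_pow, e1]
        obtain ⟨j, hj⟩ : ∃ j, orderOf w = 2 * j + 1 := ⟨orderOf w / 2, by omega⟩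
        calc w = (w ^ 2) ^ (j + 1) := by
              rw [← pow_mul, show 2 * (j + 1) = orderOf w + 1 by omega, pow_succ,
                pow_orderOf_eq_one, one_mul]
          _ = (w' ^ 2) ^ (j + 1) := by rw [e1]
          _ = w' := by
              rw [← pow_mul, show 2 * (j + 1) = orderOf w' + 1 by omega, pow_succ,
                pow_orderOf_eq_one, one_mul]
      rw [hw, hw', e2, e3]
    · obtain ⟨g, s⟩ := q
      obtain ⟨-, ⟨hss, hsg⟩, hgu⟩ := Finset.mem_filter.1 hq
      dsimp only at hss hsg hgu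
      obtain ⟨w, hw, hcw, -, hwp⟩ := id hgu
      have hsu : s * u = u * s := by
        have e : s * g * s⁻¹ = g := by rw [hsg, mul_inv_cancel_right]
        have h1 := IsPPart.conj hgu s
        rw [e] at h1
        exact mul_inv_eq_iff_eq_mul.1 (IsPPart.unique Nat.prime_two h1 hgu)
      have hsw : Commute s w := by
        have e : w = u * g := by rw [← hw, ← mul_assoc, hu, one_mul]
        show s * w = w * s
        rw [e, ← mul_assoc, hsu, mul_assoc, hsg, mul_assoc]
      obtain ⟨j, hj⟩ : ∃ j, orderOf w = 2 * j + 1 := ⟨orderOf w / 2, by omega⟩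
      set r := w ^ (j + 1) with hr
      have hr2 : r * r = w := by
        rw [hr, ← pow_add, show (j + 1) + (j + 1) = orderOf w + 1 by omega, pow_succ,
          pow_orderOf_eq_one, one_mul]
      have hsr : Commute s r := hsw.pow_right _
      have hrp : ¬ 2 ∣ orderOf r := fun h2 => hwp (h2.trans (orderOf_pow_dvd _))
      have hts : t (s * r) = s :=
        IsPPart.unique Nat.prime_two (ht _) (isPPart_mul hsr (hord2 hss) hrp)
      have hru : (s * r) * u = u * (s * r) := by
        have : Commute u r := Commute.pow_right (show Commute u w from hcw) _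
        rw [mul_assoc, ← this.eq, ← mul_assoc, hsu, mul_assoc]
      refine ⟨s * r, Finset.mem_filter.2 ⟨Finset.mem_univ _, hru⟩, ?_⟩
      refine Prod.ext ?_ hts
      show u * (s * r * (s * r)) = g
      rw [← hw]
      congr 1
      calc s * r * (s * r) = s * (r * s) * r := by group
        _ = s * (s * r) * r := by rw [hsr.eq]
        _ = w := by rw [← mul_assoc s s, hss, one_mul, hr2]
  rw [← hbij]
  split_ifs with h1
  · subst h1
    rw [Finset.filter_true_of_mem fun h _ => by rw [mul_one, one_mul]]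
    simp only [one_mul]
  · rw [Finset.sum_congr rfl fun h hh => (hc _ (key h (Finset.mem_filter.1 hh).2).choose_spec.2.2.2.2.2.1).resolve_right h1,
      Finset.sum_const, nsmul_eq_mul, Nat.card_eq_fintype_card, Fintype.card_subtype]
    congr 3
    ext h
    simp [Subgroup.mem_centralizer_singleton_iff]

/-- The Frobenius–Schur identity. -/
theorem indicator_identity (hM : IsPModular 2 M) (J : Finset G) (hJ : ∀ j ∈ J, Good P j)
    (hrep : ∀ u : G, u * u = 1 → u ≠ 1 → ∃! j, j ∈ J ∧ IsConj u j)
    {χ : IrrCharacter G} (hχ : χ ∈ principalBlock M G) :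
    fsInd (χ : G → ℂ) + ∑ j ∈ J, (val j χ : ℂ) =
      (if χ = principalIrr G then 1 else 0) + ∑ j ∈ J,
        (Nat.card (Subgroup.centralizer ({j} : Set G)) : ℂ)⁻¹ *
          ∑ c : ↥(Subgroup.centralizer ({j} : Set G)), (χ : G → ℂ) c := by
  set f : G → ℂ := (χ : G → ℂ)
  have hf : IsClassFunction G f := irr_isClassFunction χ
  set Inv := (Finset.univ : Finset G).filter fun u => u * u = 1
  set Q := (Finset.univ : Finset (G × G)).filter
    (fun q => q.2 * q.2 = 1 ∧ q.2 * q.1 = q.1 * q.2)
  choose t ht using fun g : G => exists_isPPart (G := G) Nat.prime_two g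
  have hA : ∑ q ∈ Q, f q.1 = ∑ u ∈ Inv,
      ∑ c : ↥(Subgroup.centralizer ({u} : Set G)), f c := by
    rw [← Finset.sum_fiberwise_of_maps_to (t := Inv) (g := Prod.snd) (fun q hq => by
      simp only [Q, Inv, Finset.mem_filter, Finset.mem_univ, true_and] at hq ⊢; exact hq.1)]
    refine Finset.sum_congr rfl fun u hu => ?_
    refine Finset.sum_bij' (fun q hq => ⟨q.1, ?_⟩) (fun c _ => ((c : G), u))
      (fun _ _ => Finset.mem_univ _) (fun c _ => ?_) (fun q hq => ?_) (fun c _ => rfl)
      (fun q hq => rfl)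
    · simp only [Q, Finset.mem_filter, Finset.mem_univ, true_and] at hq
      rw [Subgroup.mem_centralizer_singleton_iff, ← hq.2]
      exact hq.1.2.symm
    · simp only [Q, Finset.mem_filter, Finset.mem_univ, true_and, and_true]
      refine ⟨(Finset.mem_filter.1 hu).2, ?_⟩
      exact (Subgroup.mem_centralizer_singleton_iff.1 c.2).symm
    · exact Prod.ext rfl ((Finset.mem_filter.1 hq).2.symm)
  set J' := fun u : G => if h : u * u = 1 ∧ u ≠ 1 then (hrep u h.1 h.2).choose else u
  have hJ' : ∀ u : G, u * u = 1 → u ≠ 1 → J' u ∈ J ∧ IsConj u (J' u) := fun u h1 h2 => by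
    simp only [J', dif_pos (And.intro h1 h2)]
    exact (hrep u h1 h2).choose_spec.1
  have hB : ∑ q ∈ Q, f q.1 = ∑ u ∈ Inv, (if u = 1 then ∑ g : G, f (g * g)
      else (Nat.card (Subgroup.centralizer ({u} : Set G)) : ℂ) * (val (J' u) χ : ℂ)) := by
    rw [← Finset.sum_fiberwise_of_maps_to (t := Inv) (g := fun q => t q.1) (fun q _ => by
      obtain ⟨w, -, -, hord, -⟩ := ht q.1
      exact Finset.mem_filter.2 ⟨Finset.mem_univ _, hsq _ hord⟩)]
    refine Finset.sum_congr rfl fun u hu => ?_
    have hu2 := (Finset.mem_filter.1 hu).2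
    rw [← pairs_fiber hsq f hf hu2 (val (J' u) χ : ℂ) fun g hg => ?_]
    · refine Finset.sum_congr ?_ fun _ _ => rfl
      ext q
      simp only [Q, Finset.mem_filter, Finset.mem_univ, true_and]
      exact and_congr_right fun _ => ⟨fun h => h ▸ ht q.1,
        fun h => IsPPart.unique Nat.prime_two (ht q.1) h⟩
    · rcases eq_or_ne u 1 with h1 | h1
      · exact Or.inr h1
      · exact Or.inl ((hJ _ (hJ' u hu2 h1).1).apply_section hM hg (hJ' u hu2 h1).2 hχ)
  have h1I : (1 : G) ∈ Inv := by simp [Inv]
  -- sum over the classes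
  have hclasses : ∀ F : G → ℂ, (∀ u u' : G, IsConj u u' → F u = F u') →
      ∑ u ∈ Inv.erase 1, F u = ∑ j ∈ J,
        ((Subgroup.centralizer ({j} : Set G)).index : ℂ) * F j := by
    intro F hF
    rw [← Finset.sum_fiberwise_of_maps_to (t := J) (g := J') (fun u hu =>
      (hJ' u (Finset.mem_filter.1 (Finset.mem_of_mem_erase hu)).2 (Finset.ne_of_mem_erase hu)).1)]
    refine Finset.sum_congr rfl fun j hj => ?_
    have hfib : (Inv.erase 1).filter (fun u => J' u = j) =
        (Finset.univ : Finset G).filter (fun u => IsConj j u) := by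
      ext u
      simp only [Finset.mem_filter, Finset.mem_erase, Inv, Finset.mem_univ, true_and]
      constructor
      · rintro ⟨⟨h1, h2⟩, rfl⟩
        exact (hJ' u h2 h1).2.symm
      · intro hju
        have hj1 := (hJ j hj).order
        have hu : orderOf u = 2 := by
          obtain ⟨d, hd⟩ := isConj_iff.1 hju
          rw [← hd, show orderOf (d * j * d⁻¹) = orderOf j from (MulAut.conj d).orderOf_eq j, hj1]
        have hu2 : u * u = 1 := by rw [← pow_two, ← hu, pow_orderOf_eq_one]
        have hu1 : u ≠ 1 := fun h => by rw [h, orderOf_one] at hu; omega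
        exact ⟨⟨hu1, hu2⟩, (hrep u hu2 hu1).unique (hJ' u hu2 hu1) ⟨hj, hju.symm⟩⟩
    rw [hfib, Finset.sum_congr rfl fun u hu => (hF j u (Finset.mem_filter.1 hu).2).symm,
      Finset.sum_const, nsmul_eq_mul, ← card_isConj_eq_index, Nat.card_eq_fintype_card,
      Fintype.card_subtype]
  have hcl1 : ∀ u u' : G, IsConj u u' →
      ∑ c : ↥(Subgroup.centralizer ({u} : Set G)), f c =
        ∑ c : ↥(Subgroup.centralizer ({u'} : Set G)), f c := by
    intro u u' h
    obtain ⟨d, hd⟩ := isConj_iff.1 h
    have hmem : ∀ c : G, c ∈ Subgroup.centralizer ({u} : Set G) →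
        d * c * d⁻¹ ∈ Subgroup.centralizer ({u'} : Set G) := fun c hc => by
      rw [Subgroup.mem_centralizer_singleton_iff, ← hd]
      exact congrArg (MulAut.conj d) (Subgroup.mem_centralizer_singleton_iff.1 hc) |> fun e => by
        simpa only [map_mul, MulAut.conj_apply] using e
    refine Finset.sum_bij' (fun c _ => ⟨d * c * d⁻¹, hmem c c.2⟩)
      (fun c _ => ⟨d⁻¹ * c * d, ?_⟩) (fun _ _ => Finset.mem_univ _) (fun _ _ => Finset.mem_univ _)
      (fun c _ => Subtype.ext (by show d⁻¹ * (d * c * d⁻¹) * d = c; group))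
      (fun c _ => Subtype.ext (by show d * (d⁻¹ * c * d) * d⁻¹ = c; group))
      (fun c _ => (hf c d).symm)
    rw [Subgroup.mem_centralizer_singleton_iff]
    have hc : (c : G) * (d * u * d⁻¹) = d * u * d⁻¹ * (c : G) := by
      rw [hd]; exact Subgroup.mem_centralizer_singleton_iff.1 c.2
    calc d⁻¹ * (c : G) * d * u = d⁻¹ * ((c : G) * (d * u * d⁻¹)) * d := by group
      _ = u * (d⁻¹ * (c : G) * d) := by rw [hc]; group
  have hcl2 : ∀ u u' : G, IsConj u u' → u * u = 1 → u ≠ 1 →
      (Nat.card (Subgroup.centralizer ({u} : Set G)) : ℂ) * (val (J' u) χ : ℂ) =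
        (Nat.card (Subgroup.centralizer ({u'} : Set G)) : ℂ) * (val (J' u') χ : ℂ) := by
    intro u u' h hu hu1
    obtain ⟨d, hd⟩ := isConj_iff.1 h
    have hu' : u' * u' = 1 := by
      rw [← hd]
      calc d * u * d⁻¹ * (d * u * d⁻¹) = d * (u * u) * d⁻¹ := by group
        _ = 1 := by rw [hu]; group
    have hu'1 : u' ≠ 1 := fun e => hu1 (conj_eq_one_iff.1 (hd.trans e))
    have e1 : J' u = J' u' := (hrep u hu hu1).unique (hJ' u hu hu1)
      ⟨(hJ' u' hu' hu'1).1, h.trans (hJ' u' hu' hu'1).2⟩
    have e2 : Nat.card (Subgroup.centralizer ({u} : Set G)) =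
        Nat.card (Subgroup.centralizer ({u'} : Set G)) := by
      have a := card_isConj_mul_card_centralizer u
      have b := card_isConj_mul_card_centralizer u'
      have c : Nat.card {z : G // IsConj u z} = Nat.card {z : G // IsConj u' z} :=
        Nat.card_congr (Equiv.subtypeEquivRight fun z => ⟨h.symm.trans, h.trans⟩)
      rw [c] at a
      have hpos : 0 < Nat.card {z : G // IsConj u' z} := by
        haveI : Nonempty {z : G // IsConj u' z} := ⟨⟨u', IsConj.refl _⟩⟩
        exact Nat.card_pos
      exact Nat.eq_of_mul_eq_mul_left hpos (a.trans b.symm)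
    rw [e1, e2]
  have hcard : (Nat.card G : ℂ) ≠ 0 := Nat.cast_ne_zero.2 Nat.card_pos.ne'
  have hA' : ∑ u ∈ Inv, ∑ c : ↥(Subgroup.centralizer ({u} : Set G)), f c =
      (Nat.card G : ℂ) * (if χ = principalIrr G then 1 else 0) + ∑ j ∈ J,
        ((Subgroup.centralizer ({j} : Set G)).index : ℂ) *
          ∑ c : ↥(Subgroup.centralizer ({j} : Set G)), f c := by
    rw [← Finset.add_sum_erase _ _ h1I, hclasses _ hcl1]
    congr 1
    have htop : Subgroup.centralizer ({(1 : G)} : Set G) = ⊤ :=
      top_le_iff.1 fun c _ => Blk7.one_mem_centralizer_one c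
    have e1 : ∑ c : ↥(Subgroup.centralizer ({(1 : G)} : Set G)), f c = ∑ g : G, f g := by
      refine Finset.sum_bij' (fun c _ => (c : G)) (fun g _ => ⟨g, htop ▸ Subgroup.mem_top g⟩)
        (fun _ _ => Finset.mem_univ _) (fun _ _ => Finset.mem_univ _) (fun _ _ => rfl)
        (fun _ _ => rfl) (fun _ _ => rfl)
    rw [e1, ← classInner_irr χ (principalIrr G), classInner]
    rw [← mul_assoc, mul_inv_cancel₀ hcard, one_mul]
    exact Finset.sum_congr rfl fun g _ => by
      rw [principalIrr_apply, map_one, mul_one]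
  have hB' : ∑ u ∈ Inv, (if u = 1 then ∑ g : G, f (g * g)
      else (Nat.card (Subgroup.centralizer ({u} : Set G)) : ℂ) * (val (J' u) χ : ℂ)) =
      ∑ g : G, f (g * g) + ∑ j ∈ J, (Nat.card G : ℂ) * (val j χ : ℂ) := by
    rw [← Finset.add_sum_erase _ _ h1I, if_pos rfl]
    congr 1
    rw [Finset.sum_congr rfl fun u hu => if_neg (Finset.ne_of_mem_erase hu)]
    set F : G → ℂ := fun u => if u * u = 1 ∧ u ≠ 1 then
      (Nat.card (Subgroup.centralizer ({u} : Set G)) : ℂ) * (val (J' u) χ : ℂ) else 0
    have hF : ∀ u u' : G, IsConj u u' → F u = F u' := by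
      intro u u' h
      have hiff : ∀ a b : G, IsConj a b → a * a = 1 ∧ a ≠ 1 → b * b = 1 ∧ b ≠ 1 := by
        intro a b hab ⟨h1, h2⟩
        obtain ⟨d, rfl⟩ := isConj_iff.1 hab
        refine ⟨?_, fun e => h2 (conj_eq_one_iff.1 e)⟩
        calc d * a * d⁻¹ * (d * a * d⁻¹) = d * (a * a) * d⁻¹ := by group
          _ = 1 := by rw [h1]; group
      simp only [F]
      by_cases hu : u * u = 1 ∧ u ≠ 1
      · rw [if_pos hu, if_pos (hiff u u' h hu)]; exact hcl2 u u' h hu.1 hu.2
      · rw [if_neg hu, if_neg fun h' => hu (hiff u' u h.symm h')]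
    rw [Finset.sum_congr rfl fun u hu => show _ = F u from (if_pos
      ⟨(Finset.mem_filter.1 (Finset.mem_of_mem_erase hu)).2, Finset.ne_of_mem_erase hu⟩).symm,
      hclasses F hF]
    refine Finset.sum_congr rfl fun j hj => ?_
    have hj2 : j * j = 1 := by rw [← pow_two, ← (hJ j hj).order, pow_orderOf_eq_one]
    have hj1 : j ≠ 1 := fun e => by
      have := (hJ j hj).order
      rw [e, orderOf_one] at this
      omega
    have ej : J' j = j := (hrep j hj2 hj1).unique (hJ' j hj2 hj1) ⟨hj, IsConj.refl j⟩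
    simp only [F, if_pos (And.intro hj2 hj1), ej]
    rw [← mul_assoc, ← Nat.cast_mul, mul_comm (Subgroup.index _), Subgroup.card_mul_index]
  have hfs : fsInd f * (Nat.card G : ℂ) = ∑ g : G, f (g * g) := by
    rw [show fsInd f = (Nat.card G : ℂ)⁻¹ * ∑ g : G, f (g * g) by
      simp only [fsInd, ← finsum_eq_sum_of_fintype], mul_comm (Nat.card G : ℂ)⁻¹, mul_assoc,
      inv_mul_cancel₀ hcard, mul_one]
  have htot := hA'.symm.trans (hA.symm.trans (hB.trans hB'))
  refine mul_left_cancel₀ hcard ?_
  rw [mul_add, mul_add, mul_comm _ (fsInd f), hfs, Finset.mul_sum, Finset.mul_sum, ← htot]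
  congr 1
  refine Finset.sum_congr rfl fun j _ => ?_
  rw [← mul_assoc]
  congr 1
  rw [← (Subgroup.centralizer ({j} : Set G)).card_mul_index, Nat.cast_mul]
  field_simp

/-- The indicator column is orthogonal to the column of an involution. -/
theorem fsInd_orth (h : Good P x) (hM : IsPModular 2 M) :
    ∑ χ ∈ Finset.univ.filter (· ∈ principalBlock M G), fsInd (χ : G → ℂ) * (val x χ : ℂ) = 0 := by
  have hinv : x⁻¹ = x := by rw [inv_eq_iff_mul_eq_one, ← pow_two, ← h.order, pow_orderOf_eq_one]
  have hpx : IsPPart 2 x x := by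
    have h1 := isPPart_mul (x := x) (y := (1 : G)) (Commute.one_right x) h.order_pow
      (by simp : ¬ 2 ∣ orderOf (1 : G))
    rwa [mul_one] at h1
  have hzero : ∀ g : G, ∑ χ ∈ Finset.univ.filter (· ∈ principalBlock M G),
      (χ : G → ℂ) (g * g) * (val x χ : ℂ) = 0 := by
    intro g
    obtain ⟨u, hu⟩ := exists_isPPart (G := G) Nat.prime_two g
    obtain ⟨w, hw, hcw, hord, hwp⟩ := hu
    have hgg : g * g = w * w := by
      rw [← hw]
      calc u * w * (u * w) = u * (w * u) * w := by group
        _ = w * w := by rw [← hcw.eq, ← mul_assoc u u, hsq u hord, one_mul]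
    have hp1 : IsPPart 2 (g * g) 1 := by
      rw [hgg, ← pow_two, ← one_mul (w ^ 2)]
      exact isPPart_mul (Commute.one_left _) ⟨0, by simp⟩
        fun h2 => hwp (h2.trans (orderOf_pow_dvd 2))
    have h1 := sum_block_eq_zero_of_not_isConj hM (isPBlock_principalBlock M) hp1 hpx
      fun hc => by
        have := h.order
        rw [isConj_one_right.1 hc, orderOf_one] at this
        omega
    simpa only [hinv, h.val_spec] using h1
  have e : ∀ χ : IrrCharacter G, fsInd (χ : G → ℂ) =
      (Nat.card G : ℂ)⁻¹ * ∑ g : G, (χ : G → ℂ) (g * g) := fun χ => by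
    simp only [fsInd, ← finsum_eq_sum_of_fintype]
  simp only [e, mul_assoc, ← Finset.mul_sum, Finset.sum_mul]
  rw [Finset.sum_comm, Finset.sum_eq_zero (fun g _ => hzero g), mul_zero]

end Indicator

end CfsgLib.AbelTwo
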