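import Cfsg.Agent.Lib.AbelTwo.Elementary
import Cfsg.Agent.Lib.AbelTwo.Homocyclic
import Cfsg.Agent.Lib.Elem16.Main

/-!
# Groups in which no element of the abelian Sylow 2-subgroup is fixed by the automiser
-/

set_option autoImplicit false
set_option linter.unusedSectionVars false
set_option linter.style.haveILetI false
set_option linter.unusedVariables false
set_option maxHeartbeats 800000

noncomputable section

namespace CfsgLib.AbelTwo

open Cfsg CfsgLib.Characters CfsgLib.Blocks
open scoped ComplexConjugate Classical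

universe u

variable {G : Type u} [Group G] [Fintype G] [hp2 : Fact (Nat.Prime 2)] {M : Ideal AlgInt}
variable {P : Sylow 2 G}

/-- A conjugate of every 2-element lies in the Sylow subgroup. -/
theorem exists_conj_mem (P : Sylow 2 G) {u : G} (hu : ∃ k : ℕ, orderOf u = 2 ^ k) :
    ∃ d : G, d * u * d⁻¹ ∈ (P : Subgroup G) := by
  obtain ⟨k, hk⟩ := hu
  obtain ⟨S, hS⟩ := (IsPGroup.of_card ((Nat.card_zpowers u).trans hk) :
    IsPGroup 2 (Subgroup.zpowers u)).exists_le_sylow
  obtain ⟨d, hd⟩ := MulAction.exists_smul_eq G S P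
  refine ⟨d, ?_⟩
  rw [← hd, Sylow.coe_subgroup_smul]
  exact Subgroup.smul_mem_pointwise_smul _ (MulAut.conj d) _ (hS (Subgroup.mem_zpowers u))

/-- Fusion is controlled by the normaliser. -/
theorem fusion (P : Sylow 2 G) (hab : ∀ a ∈ (P : Subgroup G), ∀ b ∈ (P : Subgroup G), a * b = b * a)
    {x g : G} (hx : x ∈ (P : Subgroup G)) (hg : g * x * g⁻¹ ∈ (P : Subgroup G)) :
    ∃ n ∈ Subgroup.normalizer ((P : Subgroup G) : Set G), n * x * n⁻¹ = g * x * g⁻¹ := by
  haveI : IsMulCommutative (P : Subgroup G) :=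
    ⟨⟨fun a b => Subtype.ext (hab _ a.2 _ b.2)⟩⟩
  obtain ⟨n, hn, he⟩ := Sylow.conj_eq_normalizer_conj_of_mem P x g⁻¹ hx (by rwa [inv_inv])
  exact ⟨n⁻¹, inv_mem hn, by rw [inv_inv] at he ⊢; exact he.symm⟩

/-- A trivial stabiliser in the automiser gives a normal 2-complement of the centraliser. -/
theorem good_of_stab (hab : ∀ a ∈ (P : Subgroup G), ∀ b ∈ (P : Subgroup G), a * b = b * a)
    {y : G} (hy : y ∈ (P : Subgroup G)) (ho : orderOf y = 2)
    (hst : ∀ n ∈ Subgroup.normalizer ((P : Subgroup G) : Set G), n * y = y * n →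
      ∀ q ∈ (P : Subgroup G), n * q = q * n) : Good P y := by
  refine ⟨hab, hy, ho, ?_⟩
  set C := Subgroup.centralizer ({y} : Set G)
  have hle : (P : Subgroup G) ≤ C := le_centralizer_of_comm hab hy
  refine CfsgLib.Transfer.hasNormalPComplement_of_normalizer_le (P.subtype hle) fun c hc => ?_
  have hiff : ∀ q : C, q ∈ ((P.subtype hle : Sylow 2 C) : Subgroup C) ↔
      (q : G) ∈ (P : Subgroup G) := fun q => Iff.rfl
  have hcy : (c : G) * y = y * c := Subgroup.mem_centralizer_singleton_iff.1 c.2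
  have hn : (c : G) ∈ Subgroup.normalizer ((P : Subgroup G) : Set G) := by
    refine Subgroup.mem_normalizer_iff.2 fun q => ⟨fun hq => ?_, fun hq => ?_⟩
    · exact (hiff _).1 ((Subgroup.mem_normalizer_iff.1 hc ⟨q, hle hq⟩).1 ((hiff _).2 hq))
    · have hqC : q ∈ C := by
        have h1 : (c : G) * q * (c : G)⁻¹ ∈ C := hle hq
        have h2 := mul_mem (mul_mem (inv_mem c.2) h1) c.2
        have e : (c : G)⁻¹ * ((c : G) * q * (c : G)⁻¹) * (c : G) = q := by group
        rwa [e] at h2
      exact (hiff _).1 ((Subgroup.mem_normalizer_iff.1 hc ⟨q, hqC⟩).2 ((hiff _).2 hq))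
  exact Subgroup.mem_centralizer_iff.2 fun q hq =>
    Subtype.ext (hst _ hn hcy q ((hiff q).1 hq)).symm

/-- The stabiliser of a good involution is trivial. -/
theorem Good.stab {x : G} (h : Good P x) {n : G}
    (hn : n ∈ Subgroup.normalizer ((P : Subgroup G) : Set G)) (hc : n * x = x * n) :
    ∀ q ∈ (P : Subgroup G), n * q = q * n := fun q hq =>
  mul_inv_eq_iff_eq_mul.1 (h.conj_eq hc hq ((Subgroup.mem_normalizer_iff.1 hn q).1 hq))

/-- A principal block of rank one means a normal 2-complement. -/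
theorem compl_of_rank_one (hM : IsPModular 2 M)
    (h : blockRank 2 (principalBlock M G) = 1) : Cfsg.HasNormalPComplement 2 G := by
  have hnil := (Cfsg.Agent.S4646.result (G := G) 2 M hM).2 h
  exact CfsgLib.Transfer.hasNormalPComplement_of_frobeniusCond fun Q hQ g hg hcop =>
    hnil.2 Q _ (CfsgLib.BrauerPairs.isBrauerPairOf_principalPair hM hQ) g hg
      (CfsgLib.BrauerPairs.stabilizesBlock_principal hM
        (CfsgLib.BrauerPairs.normalizer_le_normalizer_cz Q hg))
      (Nat.prime_two.coprime_iff_not_dvd.1 hcop.symm)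

/-- A group of order fifteen has an element of order fifteen. -/
theorem exists_order_fifteen {E : Type*} [Group E] (h : Nat.card E = 15) :
    ∃ e : E, orderOf e = 15 := by
  haveI : Finite E := Nat.finite_of_card_ne_zero (by omega)
  haveI : Fact (Nat.Prime 3) := ⟨Nat.prime_three⟩
  haveI : Fact (Nat.Prime 5) := ⟨Nat.prime_five⟩
  obtain ⟨s, hs⟩ := exists_prime_orderOf_dvd_card' (G := E) 3 (by rw [h]; norm_num)
  obtain ⟨t, ht⟩ := exists_prime_orderOf_dvd_card' (G := E) 5 (by rw [h]; norm_num)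
  have hT : Nat.card (Subgroup.zpowers t) = 5 := by rw [Nat.card_zpowers, ht]
  haveI hN : (Subgroup.zpowers t).Normal := by
    refine Subgroup.normal_of_index_eq_minFac_card ?_
    have h1 := (Subgroup.zpowers t).card_mul_index
    rw [hT, h] at h1
    rw [h]
    norm_num
    omega
  set c := MulAut.conjNormal (H := Subgroup.zpowers t) s
  have hc3 : orderOf c ∣ 3 := hs ▸ orderOf_map_dvd MulAut.conjNormal s
  have hc4 : orderOf c ∣ 4 := by
    haveI : IsCyclic (Subgroup.zpowers t) := inferInstance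
    have h2 : Nat.card (MulAut (Subgroup.zpowers t)) = Nat.totient 5 := by
      rw [IsCyclic.card_mulAut, hT]
    rw [Nat.totient_prime Nat.prime_five] at h2
    have h5 := orderOf_dvd_natCard c
    rw [h2] at h5
    exact h5
  have hc1 : c = 1 := orderOf_eq_one_iff.1
    (Nat.dvd_one.1 ((by norm_num : Nat.gcd 3 4 = 1) ▸ Nat.dvd_gcd hc3 hc4))
  have hst : Commute s t := by
    have h2 := congrArg (fun a : MulAut (Subgroup.zpowers t) =>
      ((a ⟨t, Subgroup.mem_zpowers t⟩ : Subgroup.zpowers t) : E)) hc1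
    simp only [c, MulAut.conjNormal_apply, MulAut.one_apply] at h2
    exact mul_inv_eq_iff_eq_mul.1 h2
  exact ⟨s * t, by rw [hst.orderOf_mul_eq_mul_orderOf_of_coprime (by rw [hs, ht]; norm_num), hs, ht]⟩

/-- The coercion of the action of the normaliser. -/
theorem coe_aut (n : Subgroup.normalizer ((P : Subgroup G) : Set G)) (q : (P : Subgroup G)) :
    ((((P : Subgroup G).normalizerMonoidHom n) q : (P : Subgroup G)) : G) =
      (n : G) * q * (n : G)⁻¹ := rfl

theorem coe_aut_pow (n : Subgroup.normalizer ((P : Subgroup G) : Set G)) (i : ℕ)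
    (q : (P : Subgroup G)) :
    ((((P : Subgroup G).normalizerMonoidHom n ^ i) q : (P : Subgroup G)) : G) = cj (n : G) i q := by
  rw [← map_pow, coe_aut, Subgroup.coe_pow]
  rfl

theorem aut_eq_one_iff (n : Subgroup.normalizer ((P : Subgroup G) : Set G)) :
    (P : Subgroup G).normalizerMonoidHom n = 1 ↔
      ∀ q ∈ (P : Subgroup G), (n : G) * q = q * n := by
  rw [← MonoidHom.mem_ker, Subgroup.normalizerMonoidHom_ker, Subgroup.mem_subgroupOf,
    Subgroup.mem_centralizer_iff]
  exact ⟨fun h q hq => (h q hq).symm, fun h q hq => (h q hq).symm⟩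

/-- The automiser of an abelian Sylow 2-subgroup is odd. -/
theorem odd_automiser (hab : ∀ a ∈ (P : Subgroup G), ∀ b ∈ (P : Subgroup G), a * b = b * a) :
    Odd (Nat.card (P : Subgroup G).normalizerMonoidHom.range) := by
  rw [← Subgroup.index_ker, Subgroup.normalizerMonoidHom_ker, ← Nat.not_even_iff_odd,
    even_iff_two_dvd]
  intro h
  refine (P.subtype (Subgroup.le_normalizer (H := (P : Subgroup G)))).not_dvd_index
    (h.trans (Subgroup.index_dvd_of_le ?_))
  intro q hq
  exact Subgroup.mem_centralizer_iff.2 fun r hr => hab r hr _ hq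

/-- An odd group of order at most 15 as needed below. -/
theorem odd_cases {e : ℕ} (ho : Odd e) (hle : e ≤ 15) (h1 : e ≠ 1) :
    e = 3 ∨ e = 5 ∨ e = 7 ∨ e = 9 ∨ e = 11 ∨ e = 13 ∨ e = 15 := by
  obtain ⟨k, rfl⟩ := ho
  omega

/-- The counts, when no nontrivial element is fixed by the automiser. -/
theorem stab_count (hM : IsPModular 2 M) (P : Sylow 2 G)
    (hab : ∀ a ∈ (P : Subgroup G), ∀ b ∈ (P : Subgroup G), a * b = b * a)
    (hfix : ∀ q ∈ (P : Subgroup G),
      (∀ n ∈ Subgroup.normalizer ((P : Subgroup G) : Set G), n * q = q * n) → q = 1)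
    (hgood : Nat.card (P : Subgroup G) ≠ 1 → ∃ a, Good P a) :
    (Nat.card (P : Subgroup G) = 1 → Nat.card (principalBlock M G) = 1) ∧
    Nat.card (P : Subgroup G) ≠ 2 ∧
    (Nat.card (P : Subgroup G) = 4 → Nat.card (principalBlock M G) = 4) ∧
    (Nat.card (P : Subgroup G) = 8 → Nat.card (principalBlock M G) = 8) ∧
    (Nat.card (P : Subgroup G) = 16 →
      Nat.card (principalBlock M G) = 8 ∨ Nat.card (principalBlock M G) = 16) := by
  set q := Nat.card (P : Subgroup G) with hq
  refine ⟨fun h1 => ?_, ?_⟩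
  · -- odd order
    have hodd : ¬ 2 ∣ Nat.card G := by
      rw [← (P : Subgroup G).card_mul_index]
      rw [← hq, h1, one_mul]
      exact P.not_dvd_index
    have huniq : ∀ χ ∈ principalBlock M G, χ = principalIrr G := fun χ hχ => by
      have hker : ∀ g : G, (χ : G → ℂ) g = (χ : G → ℂ) 1 := fun g =>
        principalBlock_kernel hM hχ (N := (⊤ : Subgroup G))
          (by rwa [Subgroup.card_top]) (Subgroup.mem_top g)
      by_contra hne
      have h0 : classInner (χ : G → ℂ) (principalIrr G : G → ℂ) = 0 :=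
        classInner_irr_ne χ.2 (principalIrr G).2 fun e => hne (Subtype.ext e)
      simp only [classInner, principalIrr, map_one, mul_one, hker, Finset.sum_const, Finset.card_univ,
        nsmul_eq_mul, ← mul_assoc] at h0
      rw [Nat.card_eq_fintype_card, inv_mul_cancel₀ (by exact_mod_cast Fintype.card_ne_zero),
        one_mul] at h0
      exact irr_one_ne_zero χ h0
    refine Nat.card_eq_one_iff_unique.2 ⟨⟨fun a b => Subtype.ext ?_⟩,
      ⟨⟨principalIrr G, principalIrr_mem' hM⟩⟩⟩
    rw [huniq a a.2, huniq b b.2]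
  by_cases hq1 : q = 1
  · refine ⟨by omega, fun h => ?_, fun h => ?_, fun h => ?_⟩ <;> omega
  obtain ⟨a, ha⟩ := hgood hq1
  letI : CommGroup (P : Subgroup G) :=
    { (inferInstance : Group (P : Subgroup G)) with
      mul_comm := fun s t => Subtype.ext (hab s s.2 t t.2) }
  set f := (P : Subgroup G).normalizerMonoidHom with hf
  set E := f.range with hE
  have hEodd : Odd (Nat.card E) := odd_automiser hab
  set a' : (P : Subgroup G) := ⟨a, ha.mem⟩ with ha'
  have haA : a' ^ 2 = 1 := by
    refine Subtype.ext ?_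
    show a ^ 2 = 1
    rw [← ha.order, pow_orderOf_eq_one]
  have ha1 : a' ≠ 1 := fun e => by
    have h := ha.order
    rw [show a = 1 from congrArg Subtype.val e, orderOf_one] at h
    omega
  have hfree : ∀ e ∈ E, e a' = a' → e = 1 := by
    rintro _ ⟨n, rfl⟩ he
    exact (aut_eq_one_iff n).2 (ha.stab n.2 (mul_inv_eq_iff_eq_mul.1 (congrArg Subtype.val he)))
  have hfixE : ∀ r : (P : Subgroup G), (∀ e ∈ E, e r = r) → r = 1 := fun r hr =>
    Subtype.ext (hfix r r.2 fun n hn =>
      mul_inv_eq_iff_eq_mul.1 (congrArg Subtype.val (hr _ ⟨⟨n, hn⟩, rfl⟩)))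
  have hE1 : Nat.card E ≠ 1 := by
    intro h
    refine ha1 (hfixE a' fun e he => ?_)
    have hb : E = ⊥ := Subgroup.card_eq_one.1 h
    rw [hb, Subgroup.mem_bot] at he
    rw [he, MulAut.one_apply]
  -- the orbit of the involution is free
  have hbound : Nat.card E + 1 ≤ Nat.card (powMonoidHom 2 : (P : Subgroup G) →* _).ker := by
    let g : Option E → (powMonoidHom 2 : (P : Subgroup G) →* _).ker := fun o => match o with
      | none => 1
      | some e => ⟨(e : MulAut (P : Subgroup G)) a', by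
          rw [MonoidHom.mem_ker, powMonoidHom_apply, ← map_pow, haA, map_one]⟩
    have hg : Function.Injective g := by
      rintro (_ | e) (_ | e') h
      · rfl
      · exact absurd ((EmbeddingLike.map_eq_one_iff).1 (congrArg Subtype.val h).symm) ha1
      · exact absurd ((EmbeddingLike.map_eq_one_iff).1 (congrArg Subtype.val h)) ha1
      · refine congrArg some (Subtype.ext ?_)
        have h' : (e : MulAut (P : Subgroup G)) a' = (e' : MulAut (P : Subgroup G)) a' :=
          congrArg Subtype.val h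
        exact inv_mul_eq_one.1 (hfree _ (mul_mem (inv_mem e'.2) e.2) (by
          rw [MulAut.mul_apply, h', ← MulAut.mul_apply, inv_mul_cancel, MulAut.one_apply])) |>.symm
    have h := Nat.card_le_card_of_injective g hg
    haveI : Fintype E := Fintype.ofFinite E
    rwa [Nat.card_eq_fintype_card, Fintype.card_option, ← Nat.card_eq_fintype_card] at h
  -- invariant subgroups
  have htwo : ∀ R : Subgroup (P : Subgroup G), (∀ e ∈ E, ∀ r ∈ R, e r ∈ R) → Nat.card R ≠ 2 := by
    intro R hR h2
    haveI : Nontrivial R := Finite.one_lt_card_iff_nontrivial.1 (by omega)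
    obtain ⟨s, hs⟩ := exists_ne (1 : R)
    refine hs (Subtype.ext (hfixE s fun e he => ?_))
    by_contra hne
    have h3 : ({1, ⟨e s, hR e he s s.2⟩, s} : Finset R).card = 3 := by
      rw [Finset.card_insert_of_notMem, Finset.card_insert_of_notMem, Finset.card_singleton]
      · simp only [Finset.mem_singleton]
        exact fun h => hne (congrArg Subtype.val h)
      · simp only [Finset.mem_insert, Finset.mem_singleton, not_or]
        refine ⟨fun h => hs (Subtype.ext ?_), fun h => hs h.symm⟩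
        exact (EmbeddingLike.map_eq_one_iff).1 (congrArg Subtype.val h).symm
    haveI : Fintype R := Fintype.ofFinite R
    have := Finset.card_le_univ ({1, ⟨e s, hR e he s s.2⟩, s} : Finset R)
    rw [← Nat.card_eq_fintype_card, h2, h3] at this
    omega
  -- squares and involutions inside an invariant subgroup
  have hsplit : ∀ R : Subgroup (P : Subgroup G), (∀ e ∈ E, ∀ r ∈ R, e r ∈ R) →
      (∃ r ∈ R, r ^ 2 ≠ 1) → Nat.card R ∈ ({1, 2, 4, 8, 16} : Finset ℕ) →
      Nat.card R = 16 ∧ Nat.card (R.map (powMonoidHom 2)) = 4 ∧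
        Nat.card ↥(R ⊓ (powMonoidHom 2 : (P : Subgroup G) →* _).ker) = 4 := by
    rintro R hR ⟨r, hr, hr2⟩ hc
    set S := R.map (powMonoidHom 2 : (P : Subgroup G) →* _)
    set T := R ⊓ (powMonoidHom 2 : (P : Subgroup G) →* _).ker
    have hST : Nat.card T * Nat.card S = Nat.card R := by
      have h := ((powMonoidHom 2 : (P : Subgroup G) →* _).domRestrict R).ker.card_mul_index
      rw [Subgroup.index_ker, MonoidHom.domRestrict_range] at h
      rw [← h]
      congr 1
      rw [MonoidHom.ker_domRestrict]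
      exact Nat.card_congr
        (((Subgroup.subgroupOfEquivOfLe (inf_le_left : T ≤ R)).toEquiv.symm).trans
          (Equiv.subtypeEquivRight fun z => by simp [T, Subgroup.mem_subgroupOf]))
    have hTinv : ∀ e ∈ E, ∀ t ∈ T, e t ∈ T := fun e he t ht => Subgroup.mem_inf.2
      ⟨hR e he t (Subgroup.mem_inf.1 ht).1, by
        rw [MonoidHom.mem_ker, powMonoidHom_apply, ← map_pow]
        have := (Subgroup.mem_inf.1 ht).2
        rw [MonoidHom.mem_ker, powMonoidHom_apply] at this
        rw [this, map_one]⟩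
    have hSinv : ∀ e ∈ E, ∀ t ∈ S, e t ∈ S := by
      rintro e he _ ⟨t, ht, rfl⟩
      exact ⟨e t, hR e he t ht, by rw [powMonoidHom_apply, powMonoidHom_apply, map_pow]⟩
    have hS1 : Nat.card S ≠ 1 := fun h => hr2 (by
      have hm : r ^ 2 ∈ S := ⟨r, hr, rfl⟩
      rwa [Subgroup.card_eq_one.1 h, Subgroup.mem_bot] at hm)
    have hT1 : Nat.card T ≠ 1 := by
      intro h
      obtain ⟨k, hk⟩ := IsPGroup.iff_orderOf.1 P.2 r
      have hk2 : 2 ≤ k := by
        by_contra hlt
        refine hr2 (orderOf_dvd_iff_pow_eq_one.1 (hk ▸ ?_))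
        have : k = 0 ∨ k = 1 := by omega
        rcases this with rfl | rfl <;> norm_num
      have hm : r ^ 2 ^ (k - 1) ∈ T := Subgroup.mem_inf.2 ⟨pow_mem hr _, by
        rw [MonoidHom.mem_ker, powMonoidHom_apply, ← pow_mul, ← pow_succ,
          Nat.sub_add_cancel (by omega), ← hk, pow_orderOf_eq_one]⟩
      rw [Subgroup.card_eq_one.1 h, Subgroup.mem_bot] at hm
      have hd := Nat.le_of_dvd (by positivity) (orderOf_dvd_of_pow_eq_one hm)
      rw [hk] at hd
      exact absurd hd (not_le.2 (Nat.pow_lt_pow_right one_lt_two (by omega)))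
    have hS2 := htwo S hSinv
    have hT2 := htwo T hTinv
    have hTpos : 0 < Nat.card T := Nat.card_pos
    have hSpos : 0 < Nat.card S := Nat.card_pos
    simp only [Finset.mem_insert, Finset.mem_singleton] at hc
    have hTle : Nat.card T ≤ 16 := Nat.le_of_dvd (by norm_num) (Dvd.dvd.trans ⟨_, hST.symm⟩
      (by rcases hc with h | h | h | h | h <;> rw [h] <;> norm_num))
    rcases hc with h | h | h | h | h <;> rw [h] at hST ⊢ <;>
      interval_cases (Nat.card T) <;> omega
  have hcardP : Nat.card (P : Subgroup G) = q := rfl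
  have hclass : ∀ (n : Subgroup.normalizer ((P : Subgroup G) : Set G)),
      (∀ p ∈ (P : Subgroup G), p * p = 1) → orderOf (f n) = q - 1 →
      Nat.card (principalBlock M G) = q := by
    intro n hsq hn
    refine one_class hM ha hsq n.2 fun i h0 hi h => ?_
    have h1 : (f n) ^ i = 1 := hfree _ (pow_mem (⟨n, rfl⟩ : f n ∈ E) i)
      (Subtype.ext ((coe_aut_pow n i a').trans h))
    have := Nat.le_of_dvd h0 (orderOf_dvd_of_pow_eq_one h1)
    rw [hn] at this
    omega
  have hsqP : (∀ r : (P : Subgroup G), r ^ 2 = 1) → ∀ p ∈ (P : Subgroup G), p * p = 1 :=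
    fun h p hp => by rw [← pow_two]; exact congrArg Subtype.val (h ⟨p, hp⟩)
  have hker : (∀ r : (P : Subgroup G), r ^ 2 = 1) →
      Nat.card (powMonoidHom 2 : (P : Subgroup G) →* _).ker = q := fun h => by
    rw [show (powMonoidHom 2 : ↥(P : Subgroup G) →* ↥(P : Subgroup G)).ker = ⊤ from
      eq_top_iff.2 fun r _ => MonoidHom.mem_ker.2 (h r), Subgroup.card_top]
  have hmod : ∀ r : ℕ, r.Prime → Nat.card E = r → q ≡ 1 [MOD r] := by
    intro r hr hEr
    haveI := Fact.mk hr
    have hp : IsPGroup r E := IsPGroup.of_card (n := 1) (by rw [hEr, pow_one])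
    refine (hp.card_modEq_card_fixedPoints (P : Subgroup G)).trans (congrArg (· % r) ?_)
    refine Nat.card_eq_one_iff_unique.2 ⟨⟨fun s t => Subtype.ext ?_⟩,
      ⟨⟨1, fun e => smul_one e⟩⟩⟩
    rw [hfixE s.1 fun e he => s.2 ⟨e, he⟩, hfixE t.1 fun e he => t.2 ⟨e, he⟩]
  have hgen : ∀ r : ℕ, r.Prime → Nat.card E = r → ∃ n, orderOf (f n) = r := by
    intro r hr hEr
    haveI := Fact.mk hr
    obtain ⟨e, he⟩ := exists_prime_orderOf_dvd_card' (G := E) r (by rw [hEr])
    obtain ⟨n, hn⟩ := e.2
    exact ⟨n, by rw [hn, Subgroup.orderOf_coe, he]⟩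
  have hprimefix : ∀ r : ℕ, r.Prime → Nat.card E = r → ∀ e ∈ E, e ≠ 1 →
      ∀ s : (P : Subgroup G), e s = s → s = 1 := by
    intro r hr hEr e he hne s hs
    refine hfixE s fun d hd => ?_
    haveI := Fact.mk hr
    obtain ⟨j, hj⟩ := Subgroup.mem_zpowers_iff.1 (mem_zpowers_of_prime_card hEr
      (g := (⟨e, he⟩ : E)) (fun h => hne (congrArg Subtype.val h)) (g' := ⟨d, hd⟩))
    have hje : e ^ j = d := by
      simpa using congrArg Subtype.val hj
    rw [← hje]
    exact MulAction.mem_stabilizer_iff.1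
      (zpow_mem (MulAction.mem_stabilizer_iff.2 hs : e ∈ MulAction.stabilizer _ s) j)
  have h24 : q ≠ 2 := fun h2 => htwo ⊤ (fun _ _ _ _ => Subgroup.mem_top _)
    (by rw [Subgroup.card_top]; exact h2)
  have hdich : (q = 4 ∨ q = 8 ∨ q = 16) → (∀ r : (P : Subgroup G), r ^ 2 = 1) ∨
      (q = 16 ∧ (∃ r : (P : Subgroup G), r ^ 2 ≠ 1)) := by
    intro hqs
    by_cases hel : ∀ r : (P : Subgroup G), r ^ 2 = 1
    · exact Or.inl hel
    push Not at hel
    obtain ⟨r, hr⟩ := hel
    obtain ⟨h16, -, -⟩ := hsplit ⊤ (fun _ _ _ _ => Subgroup.mem_top _) ⟨r, Subgroup.mem_top r, hr⟩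
      (by rw [Subgroup.card_top, ← hq]; rcases hqs with h | h | h <;> rw [h] <;> decide)
    rw [Subgroup.card_top] at h16
    exact Or.inr ⟨h16, r, hr⟩
  refine ⟨h24, fun h4 => ?_, fun h8 => ?_, fun h16 => ?_⟩
  · have hel := (hdich (Or.inl h4)).resolve_right fun h => by omega
    have hb := hbound
    rw [hker hel, h4] at hb
    have he3 : Nat.card E = 3 := by obtain ⟨k, hk⟩ := hEodd; omega
    obtain ⟨n, hn⟩ := hgen 3 Nat.prime_three he3
    exact (hclass n (hsqP hel) (by omega)).trans h4
  · have hel := (hdich (Or.inr (Or.inl h8))).resolve_right fun h => by omega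
    have hb := hbound
    rw [hker hel, h8] at hb
    rcases odd_cases hEodd (by omega) hE1 with h | h | h | h | h | h | h
    · exact absurd (hmod 3 Nat.prime_three h) (by rw [h8]; decide)
    · exact absurd (hmod 5 Nat.prime_five h) (by rw [h8]; decide)
    · obtain ⟨n, hn⟩ := hgen 7 (by norm_num) h
      exact (hclass n (hsqP hel) (by omega)).trans h8
    all_goals omega
  rcases hdich (Or.inr (Or.inr h16)) with hel | ⟨-, r, hr⟩
  · -- elementary
    have hb := hbound
    rw [hker hel, h16] at hb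
    have hsq := hsqP hel
    have hsmall : ∀ m : ℕ, (m = 3 ∨ m = 5) → Nat.card E = m →
        Nat.card (principalBlock M G) = 8 := by
      intro m hm35 hEm
      have hmp : m.Prime := by rcases hm35 with rfl | rfl <;> norm_num
      haveI := Fact.mk hmp
      obtain ⟨n, hn⟩ := hgen m hmp hEm
      have hgall : ∀ p ∈ (P : Subgroup G), p ≠ 1 → Good P p := fun p hp hp1 =>
        good_of_stab hab hp (orderOf_eq_prime (by rw [pow_two]; exact hsq p hp) hp1)
          fun d hd hc => (aut_eq_one_iff ⟨d, hd⟩).1 (by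
            by_contra hne
            exact hp1 (congrArg Subtype.val (hprimefix m hmp hEm _ ⟨⟨d, hd⟩, rfl⟩ hne ⟨p, hp⟩
              (Subtype.ext (mul_inv_eq_iff_eq_mul.2 hc)))))
      refine free_sixteen hM hsq (hcardP.trans h16) hgall n.2 hm35 (fun p hp => ?_)
        (fun p hp hp1 i h0 hi h => ?_) (fun p hp p' hp' hc => ?_)
      · rw [← coe_aut_pow n m ⟨p, hp⟩, ← hn, pow_orderOf_eq_one, MulAut.one_apply]
      · refine hp1 (congrArg Subtype.val (hprimefix m hmp hEm _ (pow_mem (⟨n, rfl⟩ : f n ∈ E) i) ?_ ⟨p, hp⟩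
          (Subtype.ext ((coe_aut_pow n i ⟨p, hp⟩).trans h))))
        intro h1
        have : orderOf (f n) ≤ i := Nat.le_of_dvd h0 (orderOf_dvd_of_pow_eq_one h1)
        rw [hn] at this
        omega
      · obtain ⟨g, hg⟩ := isConj_iff.1 hc
        obtain ⟨d, hd, hdp⟩ := fusion P hab hp (g := g) (by rw [hg]; exact hp')
        have hmem : (⟨f ⟨d, hd⟩, ⟨_, rfl⟩⟩ : E) ∈ Subgroup.zpowers (⟨f n, ⟨n, rfl⟩⟩ : E) :=
          mem_zpowers_of_prime_card hEm fun h => by
            have h1 : f n = 1 := congrArg Subtype.val h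
            rw [h1, orderOf_one] at hn
            exact hmp.one_lt.ne hn
        rw [(isOfFinOrder_of_finite _).mem_zpowers_iff_mem_range_orderOf] at hmem
        obtain ⟨i, hi, hie⟩ := Finset.mem_image.1 hmem
        rw [← Subgroup.orderOf_coe, Finset.mem_range, show orderOf (f n) = m from hn] at hi
        refine ⟨i, hi, ?_⟩
        rw [← hg, ← hdp, ← coe_aut_pow n i ⟨p, hp⟩,
          show f n ^ i = f ⟨d, hd⟩ from congrArg Subtype.val hie]
        rfl
    rcases odd_cases hEodd (by omega) hE1 with h | h | h | h | h | h | h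
    · exact Or.inl (hsmall 3 (Or.inl rfl) h)
    · exact Or.inl (hsmall 5 (Or.inr rfl) h)
    · exact absurd (hmod 7 (by norm_num) h) (by rw [h16]; decide)
    · right
      obtain ⟨W, W', F⟩ := Elem16.exists_frame P (hcardP.trans h16) hel (by
        show (Subgroup.centralizer ((P : Subgroup G) : Set G)).relIndex _ = 9
        rw [← h, hE, ← Subgroup.index_ker, hf, Subgroup.normalizerMonoidHom_ker]
        rfl)
      exact (F.invariants hM).1
    · exact absurd (hmod 11 (by norm_num) h) (by rw [h16]; decide)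
    · exact absurd (hmod 13 (by norm_num) h) (by rw [h16]; decide)
    · right
      obtain ⟨e, he⟩ := exists_order_fifteen h
      obtain ⟨n, hn⟩ := e.2
      exact (hclass n hsq (by rw [hn, Subgroup.orderOf_coe, he, h16])).trans h16
  · -- homocyclic
    left
    obtain ⟨-, hS4, hT4⟩ := hsplit ⊤ (fun _ _ _ _ => Subgroup.mem_top _) ⟨r, Subgroup.mem_top r, hr⟩
      (by rw [Subgroup.card_top, ← hq, h16]; decide)
    set sq := (powMonoidHom 2 : (P : Subgroup G) →* _)
    set S := (⊤ : Subgroup (P : Subgroup G)).map sq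
    have hSinv : ∀ e ∈ E, ∀ t ∈ S, e t ∈ S := by
      rintro e he _ ⟨t, ht, rfl⟩
      exact ⟨e t, Subgroup.mem_top _, by simp [sq]⟩
    have hSel : ∀ s ∈ S, s ^ 2 = 1 := by
      intro s hs
      by_contra hne
      have := (hsplit S hSinv ⟨s, hs, hne⟩ (by rw [hS4]; decide)).1
      omega
    have hp4 : ∀ p ∈ (P : Subgroup G), p ^ 4 = 1 := fun p hp => by
      have h := congrArg Subtype.val (hSel ((⟨p, hp⟩ : (P : Subgroup G)) ^ 2)
        ⟨⟨p, hp⟩, Subgroup.mem_top _, rfl⟩)
      simpa [← pow_mul] using h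
    have hkerS : sq.ker = S := by
      refine (Subgroup.eq_of_le_of_card_ge (fun s hs => MonoidHom.mem_ker.2 (hSel s hs)) ?_).symm
      rw [hS4, ← hT4, top_inf_eq]
    have hb := hbound
    rw [hkerS, hS4] at hb
    have he3 : Nat.card E = 3 := by obtain ⟨k, hk⟩ := hEodd; omega
    obtain ⟨n, hn⟩ := hgen 3 Nat.prime_three he3
    have hne : f n ≠ 1 := fun h => by rw [h, orderOf_one] at hn; omega
    -- two different squares
    haveI : Nontrivial S := Finite.one_lt_card_iff_nontrivial.1 (by omega)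
    obtain ⟨s, hs⟩ := exists_ne (1 : S)
    have hs' : (s : (P : Subgroup G)) ≠ 1 := fun h => hs (Subtype.ext h)
    obtain ⟨w, -, hw⟩ := s.2
    have hw' : w ^ 2 = (s : (P : Subgroup G)) := hw
    refine homocyclic_eight hM P (hcardP.trans h16) hab hp4 w.2 (f n w).2 ?_ ?_ ?_ n.2 ?_
    · exact fun h => hs' (by rw [← hw']; exact Subtype.ext h)
    · intro h
      have h' : f n (s : (P : Subgroup G)) = 1 := by
        rw [← hw', map_pow]; exact Subtype.ext h
      exact hs' ((EmbeddingLike.map_eq_one_iff).1 h')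
    · intro h
      refine hs' (hprimefix 3 Nat.prime_three he3 _ ⟨n, rfl⟩ hne _ ?_)
      rw [← hw', map_pow]
      exact (Subtype.ext h).symm
    · intro p hp hpn
      exact congrArg Subtype.val (hprimefix 3 Nat.prime_three he3 _ ⟨n, rfl⟩ hne ⟨p, hp⟩
        (Subtype.ext hpn))

end CfsgLib.AbelTwo
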